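import Cfsg.Agent.H198.FC.Defs

/-!
# S5764, StmtRed: sections with a 3-base (helper754)

* `Sec S A B w` : `A ≤ B` are `S`-invariant, and an element of `S` fixing the three vectors `w j` of `B` modulo `A`
  acts trivially on `B / A`;
* `hat` : the group of all semilinear bijections acting on `V / A` like an element of `S`;
* `fiveV_of_gl` : determinants may be ignored if `A ≠ 0`.
-/

set_option autoImplicit false

namespace Cfsg.Agent.H754.FC

open Cfsg.Agent.H198.FC Module

universe u v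

variable {K : Type u} [Field K] {V : Type v} [AddCommGroup V] [Module K V]

/-- `A ≤ B` invariant under `S`, with a 3-base of `S` on `B / A` -/
structure Sec (S : Subgroup (Equiv.Perm V)) (A B : Submodule K V) (w : Fin 3 → V) : Prop where
  semi : S ≤ Semi K V
  hom : ∀ a, hm K V a ∈ S
  le : A ≤ B
  invA : ∀ g ∈ S, ∀ v ∈ A, g v ∈ A
  invB : ∀ g ∈ S, ∀ v ∈ B, g v ∈ B
  mem : ∀ j, w j ∈ B
  base : ∀ g ∈ S, (∀ j, g (w j) - w j ∈ A) → ∀ v ∈ B, g v - v ∈ A

omit [AddCommGroup V] in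
theorem inv_app (g : Equiv.Perm V) (v : V) : g⁻¹ (g v) = v := g.symm_apply_apply v

omit [AddCommGroup V] in
theorem app_inv (g : Equiv.Perm V) (v : V) : g (g⁻¹ v) = v := g.apply_symm_apply v

/-! ### semilinear bijections -/

theorem semi_add {g : Equiv.Perm V} (hg : g ∈ Semi K V) (v w : V) : g (v + w) = g v + g w := hg.1 v w

theorem semi_zero {g : Equiv.Perm V} (hg : g ∈ Semi K V) : g 0 = 0 := by
  have := semi_add hg 0 0
  rw [add_zero] at this
  exact left_eq_add.1 this

theorem semi_neg {g : Equiv.Perm V} (hg : g ∈ Semi K V) (v : V) : g (-v) = -g v := by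
  rw [eq_neg_iff_add_eq_zero, ← semi_add hg, neg_add_cancel, semi_zero hg]

theorem semi_sub {g : Equiv.Perm V} (hg : g ∈ Semi K V) (v w : V) : g (v - w) = g v - g w := by
  rw [sub_eq_add_neg, semi_add hg, semi_neg hg, ← sub_eq_add_neg]

theorem linear_mem_semi (x : V ≃ₗ[K] V) : (x.toEquiv : Equiv.Perm V) ∈ Semi K V :=
  ⟨fun v w => x.map_add v w, RingEquiv.refl K, fun a v => x.map_smul a v⟩

/-- an element of `S` which is `λ` on the base (modulo `A`) is `λ` on `B / A` -/
theorem Sec.scalar {S : Subgroup (Equiv.Perm V)} {A B : Submodule K V} {w : Fin 3 → V} (h : Sec S A B w)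
    {g : Equiv.Perm V} (hg : g ∈ S) {c : Kˣ} (hc : ∀ j, g (w j) - (c : K) • w j ∈ A) :
    ∀ v ∈ B, g v - (c : K) • v ∈ A := by
  intro v hv
  have h1 : (hm K V c)⁻¹ * g ∈ S := mul_mem (inv_mem (h.hom c)) hg
  have e1 : ∀ u : V, ((hm K V c)⁻¹ * g) u = (c⁻¹ : Kˣ) • g u := by
    intro u
    rw [← map_inv, Equiv.Perm.mul_apply, hm_apply, Units.smul_def]
  have h2 := h.base _ h1 (fun j => by
    rw [e1]
    have := A.smul_mem ((c⁻¹ : Kˣ) : K) (hc j)
    rw [smul_sub, smul_smul, Units.inv_mul, one_smul] at this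
    rwa [Units.smul_def]) v hv
  rw [e1] at h2
  have := A.smul_mem (c : K) h2
  rwa [smul_sub, Units.smul_def, smul_smul, Units.mul_inv, one_smul] at this

theorem Sec.mapA {S : Subgroup (Equiv.Perm V)} {A B : Submodule K V} {w : Fin 3 → V} (h : Sec S A B w)
    {g : Equiv.Perm V} (hg : g ∈ S) {v : V} : g v ∈ A ↔ v ∈ A := by
  refine ⟨fun hv => ?_, h.invA g hg v⟩
  have := h.invA g⁻¹ (inv_mem hg) _ hv
  rwa [inv_app] at this

/-! ### The group `hat` -/

section hat

variable (S : Subgroup (Equiv.Perm V)) (A : Submodule K V) (hS : S ≤ Semi K V)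
  (hA : ∀ g ∈ S, ∀ v ∈ A, g v ∈ A)

/-- semilinear bijections acting on `V / A` like an element of `S` -/
def hat : Subgroup (Equiv.Perm V) where
  carrier := {k | k ∈ Semi K V ∧ ∃ s ∈ S, ∀ v, k v - s v ∈ A}
  one_mem' := ⟨one_mem _, 1, one_mem _, fun v => by rw [sub_self]; exact A.zero_mem⟩
  mul_mem' := by
    rintro k k' ⟨hk, s, hs, h⟩ ⟨hk', s', hs', h'⟩
    refine ⟨mul_mem hk hk', s * s', mul_mem hs hs', fun v => ?_⟩
    have h1 := h (k' v)
    have h2 := hA s hs _ (h' v)
    rw [semi_sub (hS hs)] at h2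
    have := A.add_mem h1 h2
    rwa [sub_add_sub_cancel] at this
  inv_mem' := by
    rintro k ⟨hk, s, hs, h⟩
    refine ⟨inv_mem hk, s⁻¹, inv_mem hs, fun v => ?_⟩
    have h1 := h (k⁻¹ v)
    rw [app_inv] at h1
    have h2 := hA _ (inv_mem hs) _ h1
    rw [semi_sub (hS (inv_mem hs)), inv_app] at h2
    have := A.neg_mem h2
    rwa [neg_sub] at this

variable {S A}

theorem le_hat : S ≤ hat S A hS hA := fun s hs => ⟨hS hs, s, hs, fun v => by rw [sub_self]; exact A.zero_mem⟩

theorem mem_hat_of {k : Equiv.Perm V} (hk : k ∈ Semi K V) (h : ∀ v, k v - v ∈ A) : k ∈ hat S A hS hA :=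
  ⟨hk, 1, one_mem _, h⟩

end hat

theorem Sec.hat {S : Subgroup (Equiv.Perm V)} {A B : Submodule K V} {w : Fin 3 → V} (h : Sec S A B w) :
    Sec (hat S A h.semi h.invA) A B w where
  semi := fun _ hk => hk.1
  hom a := le_hat h.semi h.invA (h.hom a)
  le := h.le
  invA := by
    rintro k ⟨_, s, hs, hk⟩ v hv
    have := A.add_mem (hk v) (h.invA s hs v hv)
    rwa [sub_add_cancel] at this
  invB := by
    rintro k ⟨_, s, hs, hk⟩ v hv
    have := B.add_mem (h.le (hk v)) (h.invB s hs v hv)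
    rwa [sub_add_cancel] at this
  mem := h.mem
  base := by
    rintro k ⟨_, s, hs, hk⟩ hw v hv
    have h1 := h.base s hs (fun j => by
      have := A.sub_mem (hw j) (hk (w j))
      rwa [sub_sub_sub_cancel_left] at this) v hv
    have := A.add_mem (hk v) h1
    rwa [sub_add_sub_cancel] at this

/-- dilations with centre in `A` -/
theorem exists_dilation [Module.Finite K V] {A : Submodule K V} (hA : A ≠ ⊥) (d : Kˣ) :
    ∃ e : V ≃ₗ[K] V, LinearMap.det (e : V →ₗ[K] V) = d ∧ ∀ v, e v - v ∈ A := by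
  obtain ⟨x, hx, hx0⟩ := A.exists_mem_ne_zero_of_ne_bot hA
  obtain ⟨f, hf⟩ := Module.Projective.exists_dual_eq_one K hx0
  have hu : IsUnit (1 + (((d : K) - 1) • f) x) := by
    rw [LinearMap.smul_apply, hf, smul_eq_mul, mul_one, add_sub_cancel]
    exact d.isUnit
  refine ⟨LinearEquiv.dilatransvection hu, ?_, fun v => ?_⟩
  · rw [LinearEquiv.dilatransvection.coe_toLinearMap, LinearMap.transvection.det, LinearMap.smul_apply, hf,
      smul_eq_mul, mul_one, add_sub_cancel]
  · rw [LinearEquiv.dilatransvection.apply, add_sub_cancel_left]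
    exact A.smul_mem _ hx

/-- **determinants are free** -/
theorem fiveV_of_gl [Module.Finite K V] {S : Subgroup (Equiv.Perm V)} {A B : Submodule K V} {w : Fin 3 → V}
    (h : Sec S A B w) (hA : A ≠ ⊥)
    (H : ∀ S' : Subgroup (Equiv.Perm V), S ≤ S' → Sec S' A B w → ∃ x : Fin 4 → (V ≃ₗ[K] V),
      ∀ g ∈ S', (∀ i, ((x i).toEquiv : Equiv.Perm V) * g * ((x i).toEquiv : Equiv.Perm V)⁻¹ ∈ S') →
        ∃ a : Kˣ, g = hm K V a) : FiveV K V S := by
  obtain ⟨x, hx⟩ := H _ (le_hat h.semi h.invA) h.hat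
  have hd : ∀ i, IsUnit (LinearMap.det ((x i : V ≃ₗ[K] V) : V →ₗ[K] V)) := fun i => (x i).isUnit_det'
  choose e he hee using fun i => exists_dilation (V := V) hA ((hd i).unit⁻¹)
  refine FiveV.mono (le_hat h.semi h.invA) ⟨fun i => (x i).trans (e i), fun i => ?_, fun g hg hi => ?_⟩
  · rw [LinearEquiv.coe_trans, LinearMap.det_comp, he]
    exact (hd i).val_inv_mul
  · refine hx g hg fun i => ?_
    have he' : ((e i).toEquiv : Equiv.Perm V) ∈ H754.FC.hat S A h.semi h.invA :=
      mem_hat_of h.semi h.invA (linear_mem_semi (e i)) (hee i)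
    have h1 := mul_mem (mul_mem (inv_mem he') (hi i)) he'
    have h2 : ((e i).toEquiv : Equiv.Perm V)⁻¹ * ((((x i).trans (e i)).toEquiv : Equiv.Perm V) * g *
        (((x i).trans (e i)).toEquiv : Equiv.Perm V)⁻¹) * ((e i).toEquiv : Equiv.Perm V) =
        ((x i).toEquiv : Equiv.Perm V) * g * ((x i).toEquiv : Equiv.Perm V)⁻¹ := by
      have h3 : (((x i).trans (e i)).toEquiv : Equiv.Perm V) =
          ((e i).toEquiv : Equiv.Perm V) * ((x i).toEquiv : Equiv.Perm V) := rfl
      rw [h3]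
      group
    rwa [h2] at h1

end Cfsg.Agent.H754.FC
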