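import Cfsg.Agent.H5.FC.Hyp

/-!
# S5764 [B-PAR]: L1, hyperbolic pairs adapted to a totally isotropic subspace (helper754)
-/

set_option autoImplicit false

namespace Cfsg.Agent.H754.FC

open Cfsg.Agent.H198.FC Cfsg.Agent.H5.FC

universe u v

section

variable {K : Type u} [Field K] {V : Type v} [AddCommGroup V] [Module K V] (b : Cl K V)

/-- vectors dual to a linearly independent family -/
theorem exists_dual {n : ℕ} {e : Fin n → V} (he : LinearIndependent K e) :
    ∃ g : Fin n → V, ∀ i j, b.B (g j) (e i) = if i = j then 1 else 0 := by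
  classical
  let Φ : V →ₗ[K] (Fin n → K) :=
    { toFun := fun v i => b.B v (e i)
      map_add' := fun v w => funext fun i => b.add_left v w (e i)
      map_smul' := fun c v => funext fun i => b.smul_left c v (e i) }
  have hΦ : ∀ v i, Φ v i = b.B v (e i) := fun _ _ => rfl
  have hsurj : LinearMap.range Φ = ⊤ := by
    by_contra hne
    obtain ⟨φ, hφ0, hφ⟩ := Submodule.exists_le_ker_of_lt_top _ (lt_top_iff_ne_top.2 hne)
    have hsum : ∀ x : Fin n → K, φ x = ∑ i, x i * φ (Pi.single i 1) := by
      intro x
      conv_lhs => rw [pi_eq_sum_univ' x]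
      rw [map_sum]
      refine Finset.sum_congr rfl fun i _ => ?_
      rw [map_smul, smul_eq_mul]
    obtain ⟨ε, hk, hs⟩ := exists_eps b
    have h1 : ∀ v, b.B v (∑ i, b.τ (φ (Pi.single i 1)) • e i) = 0 := by
      intro v
      rw [B_sumr]
      have h2 : φ (Φ v) = 0 := hφ ⟨v, rfl⟩
      rw [hsum] at h2
      rw [← h2]
      refine Finset.sum_congr rfl fun i _ => ?_
      rw [b.smul_right, b.invol, hΦ, mul_comm]
    have h2 : ∑ i, b.τ (φ (Pi.single i 1)) • e i = 0 := by
      refine b.nondeg _ fun w => ?_
      rw [hs w, h1, map_zero, mul_zero]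
    have h3 := Fintype.linearIndependent_iff.1 he _ h2
    apply hφ0
    apply LinearMap.ext
    intro x
    rw [hsum, LinearMap.zero_apply]
    refine Finset.sum_eq_zero fun i _ => ?_
    rw [(map_eq_zero b.τ).1 (h3 i), mul_zero]
  choose g hg using fun j : Fin n => LinearMap.range_eq_top.1 hsurj (Pi.single j 1)
  refine ⟨g, fun i j => ?_⟩
  rw [← hΦ, hg, Pi.single_apply]

/-- **hyperbolic pairs** -/
theorem exists_hyp [Finite K] [Module.Finite K V] {A : Submodule K V} (hA : A ≠ ⊥) (hTI : b.TI A) :
    ∃ (ε : K) (l : ℕ) (e f : Fin (l + 1) → V), Hy b ε l e f ∧ Submodule.span K (Set.range e) = A := by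
  classical
  obtain ⟨ε, hk, hs⟩ := exists_eps b
  have hε := hk.sq
  obtain ⟨l, hl⟩ : ∃ l, Module.finrank K A = l + 1 := by
    refine Nat.exists_eq_succ_of_ne_zero fun h => hA ?_
    rwa [Submodule.finrank_eq_zero] at h
  let B := Module.finBasisOfFinrankEq K A hl
  let e : Fin (l + 1) → V := fun i => (B i : V)
  have he : LinearIndependent K e := B.linearIndependent.map' A.subtype (Submodule.ker_subtype A)
  have hspan : Submodule.span K (Set.range e) = A := by
    have h1 : Set.range e = A.subtype '' Set.range B := by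
      rw [← Set.range_comp]
      rfl
    rw [h1, Submodule.span_image, B.span_eq, Submodule.map_top, Submodule.range_subtype]
  have hee : ∀ i j, b.B (e i) (e j) = 0 := fun i j => hTI _ (B i).2 _ (B j).2
  obtain ⟨g, hg⟩ := exists_dual b he
  let f' : Fin (l + 1) → V := fun j => ε • g j
  have hf' : ∀ j, f' j = ε • g j := fun _ => rfl
  have h1 : ∀ i j, b.B (f' i) (e j) = if i = j then ε else 0 := by
    intro i j
    rw [hf', b.smul_left, hg]
    by_cases h : i = j
    · rw [if_pos h.symm, if_pos h, mul_one]
    · rw [if_neg (Ne.symm h), if_neg h, mul_zero]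
  have h2 : ∀ i j, b.B (e i) (f' j) = if i = j then 1 else 0 := by
    intro i j
    rw [hs (f' j) (e i), h1]
    by_cases h : i = j
    · rw [if_pos h, if_pos h.symm, hk.tau, hε]
    · rw [if_neg h, if_neg (Ne.symm h), map_zero, mul_zero]
  choose η hη using fun i => exists_eta b hk hs (f' i)
  let c : Fin (l + 1) → Fin (l + 1) → K := fun i j =>
    if i < j then -b.B (f' i) (f' j) else if i = j then η i else 0
  have hc : ∀ i j, c i j = if i < j then -b.B (f' i) (f' j) else if i = j then η i else 0 := fun _ _ => rfl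
  have key : ∀ i j, c i j + ε * b.τ (c j i) + b.B (f' i) (f' j) = 0 := by
    intro i j
    rcases lt_trichotomy i j with h | h | h
    · rw [hc i j, hc j i, if_pos h, if_neg (not_lt.2 h.le), if_neg h.ne', map_zero, mul_zero, add_zero,
        neg_add_cancel]
    · subst h
      rw [hc i i, if_neg (lt_irrefl i), if_pos rfl]
      exact hη i
    · rw [hc i j, hc j i, if_pos h, if_neg (not_lt.2 h.le), if_neg h.ne', map_neg, zero_add, hs (f' j) (f' i)]
      ring
  let f : Fin (l + 1) → V := fun i => f' i + ∑ k, c i k • e k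
  have hf : ∀ i, f i = f' i + ∑ k, c i k • e k := fun _ => rfl
  have h3 : ∀ i j, b.B (e i) (∑ k, c j k • e k) = 0 := by
    intro i j
    rw [B_sumr]
    refine Finset.sum_eq_zero fun k _ => ?_
    rw [b.smul_right, hee, mul_zero]
  refine ⟨ε, l, e, f, ⟨hk, hs, hee, fun i j => ?_, fun i j => ?_⟩, hspan⟩
  · rw [hf i, hf j, b.add_left, b.add_right, b.add_right]
    have e1 : b.B (f' i) (∑ k, c j k • e k) = ε * b.τ (c j i) := by
      rw [B_sumr, Finset.sum_eq_single i]
      · rw [b.smul_right, h1, if_pos rfl, mul_comm]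
      · intro k _ hki
        rw [b.smul_right, h1, if_neg (Ne.symm hki), mul_zero]
      · intro h; exact absurd (Finset.mem_univ _) h
    have e2 : b.B (∑ k, c i k • e k) (f' j) = c i j := by
      rw [B_suml, Finset.sum_eq_single j]
      · rw [b.smul_left, h2, if_pos rfl, mul_one]
      · intro k _ hkj
        rw [b.smul_left, h2, if_neg hkj, mul_zero]
      · intro h; exact absurd (Finset.mem_univ _) h
    have e3 : b.B (∑ k, c i k • e k) (∑ k, c j k • e k) = 0 := by
      rw [B_suml]
      refine Finset.sum_eq_zero fun k _ => ?_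
      rw [b.smul_left, h3, mul_zero]
    rw [e1, e2, e3]
    linear_combination key i j
  · rw [hf j, b.add_right, h3, add_zero, h2]

end

end Cfsg.Agent.H754.FC
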