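import Cfsg.Agent.H754.FC.Sec

/-!
# S5764, StmtRed: rigid configurations of five `a`-subspaces in a `2a`-space (helper754)
-/

set_option autoImplicit false

namespace Cfsg.Agent.H754.FC

open Cfsg.Agent.H198.FC Module

universe u v

section

variable {K : Type u} [Field K]

/-- a non-zero element moved by all non-trivial automorphisms -/
theorem exists_gen (K : Type u) [Field K] [Finite K] :
    ∃ γ : K, γ ≠ 0 ∧ ∀ σ : K ≃+* K, σ γ = γ → ∀ a, σ a = a := by
  obtain ⟨g, hg⟩ := IsCyclic.exists_generator (α := Kˣ)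
  refine ⟨g, g.ne_zero, fun σ hσ a => ?_⟩
  by_cases ha : a = 0
  · rw [ha, map_zero]
  · obtain ⟨n, hn⟩ := Subgroup.mem_zpowers_iff.1 (hg (Units.mk0 a ha))
    have h1 : a = (g : K) ^ n := by
      rw [← Units.val_zpow_eq_zpow_val, hn]
      rfl
    rw [h1, map_zpow₀, hσ]

variable {X : Type v} [AddCommGroup X] [Module K X]

/-- five copies `A, G 0 A, …, G 3 A` of `A` in `X` with scalar common stabilizer -/
structure Cfg (A C : Submodule K X) (G : Fin 4 → (X ≃ₗ[K] X)) : Prop where
  span : ∀ x : X, ∃ a ∈ A, ∃ b ∈ A, x = a + G 0 b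
  dis : ∀ x ∈ A, (G 0).symm x ∈ A → x = 0
  rig : ∀ k ∈ Semi K X, (∀ v ∈ A, k v ∈ A) → (∀ i, ∀ v ∈ A, (G i).symm (k (G i v)) ∈ A) →
    ∃ c : Kˣ, ∀ v, k v = (c : K) • v
  int : ∀ x ∈ C, (G 0).symm x ∈ C → (G 1).symm x ∈ C → (G 2).symm x ∈ C → x = 0

/-- `GL` is transitive on the subspaces of given dimension -/
theorem exists_map_eq [Module.Finite K X] (A A' : Submodule K X) (h : finrank K A = finrank K A') :
    ∃ e : X ≃ₗ[K] X, ∀ v, v ∈ A ↔ e v ∈ A' := by
  obtain ⟨D, hD⟩ := A.exists_isCompl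
  obtain ⟨D', hD'⟩ := A'.exists_isCompl
  have h1 := Submodule.finrank_add_eq_of_isCompl hD
  have h2 := Submodule.finrank_add_eq_of_isCompl hD'
  let f : A ≃ₗ[K] A' := LinearEquiv.ofFinrankEq A A' h
  let g : D ≃ₗ[K] D' := LinearEquiv.ofFinrankEq D D' (by omega)
  refine ⟨(Submodule.prodEquivOfIsCompl A D hD).symm.trans ((f.prodCongr g).trans
    (Submodule.prodEquivOfIsCompl A' D' hD')), fun v => ?_⟩
  obtain ⟨⟨x, y⟩, rfl⟩ := (Submodule.prodEquivOfIsCompl A D hD).surjective v
  rw [LinearEquiv.trans_apply, LinearEquiv.symm_apply_apply, LinearEquiv.trans_apply,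
    LinearEquiv.prodCongr_apply, Submodule.coe_prodEquivOfIsCompl', Submodule.coe_prodEquivOfIsCompl']
  have e1 : ((x : X) + (y : X) ∈ A) ↔ y = 0 := by
    rw [Submodule.add_mem_iff_right _ x.2]
    constructor
    · intro hy
      exact Subtype.ext (Submodule.disjoint_def.1 hD.disjoint _ hy y.2)
    · rintro rfl
      exact A.zero_mem
  have e2 : (((f x : A') : X) + ((g y : D') : X) ∈ A') ↔ g y = 0 := by
    rw [Submodule.add_mem_iff_right _ (f x).2]
    constructor
    · intro hy
      exact Subtype.ext (Submodule.disjoint_def.1 hD'.disjoint _ hy (g y).2)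
    · intro hy
      rw [hy]
      exact A'.zero_mem
  rw [e1, e2]
  exact (LinearEquiv.map_eq_zero_iff g).symm

/-- subspaces of all dimensions between two given ones -/
theorem exists_between [Module.Finite K X] {A B : Submodule K X} (hAB : A ≤ B) (n : ℕ)
    (hn : finrank K A + n ≤ finrank K B) : ∃ C : Submodule K X, A ≤ C ∧ C ≤ B ∧ finrank K C = finrank K A + n := by
  induction n with
  | zero => exact ⟨A, le_refl _, hAB, rfl⟩
  | succ n ih =>
    obtain ⟨C, hAC, hCB, hC⟩ := ih (by omega)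
    have hlt : C < B := lt_of_le_of_ne hCB (fun h => by rw [h] at hC; omega)
    obtain ⟨v, hvB, hvC⟩ := SetLike.exists_of_lt hlt
    have hv : v ≠ 0 := fun h => hvC (h ▸ C.zero_mem)
    refine ⟨C ⊔ Submodule.span K {v}, hAC.trans le_sup_left, sup_le hCB ?_, ?_⟩
    · rw [Submodule.span_singleton_le_iff_mem]
      exact hvB
    · have h1 := Submodule.finrank_sup_add_finrank_inf_eq C (Submodule.span K {v})
      have h2 : C ⊓ Submodule.span K {v} = ⊥ := by
        rw [← disjoint_iff]
        exact (Submodule.disjoint_span_singleton' hv).2 hvC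
      rw [h2, finrank_bot, finrank_span_singleton hv, hC] at h1
      omega

/-- moving a subspace off another one -/
theorem exists_disj [Module.Finite K X] (E E' : Submodule K X) (h : finrank K E + finrank K E' ≤ finrank K X) :
    ∃ P : X ≃ₗ[K] X, ∀ v ∈ E, P v ∈ E' → v = 0 := by
  obtain ⟨D, hD⟩ := E'.exists_isCompl
  have h1 := Submodule.finrank_add_eq_of_isCompl hD
  obtain ⟨F, -, hFD, hF⟩ := exists_between (bot_le : (⊥ : Submodule K X) ≤ D) (finrank K E) (by
    rw [finrank_bot]; omega)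
  rw [finrank_bot, zero_add] at hF
  obtain ⟨P, hP⟩ := exists_map_eq E F hF.symm
  refine ⟨P, fun v hv hv' => ?_⟩
  have h2 := Submodule.disjoint_def.1 hD.disjoint _ hv' (hFD ((hP v).1 hv))
  exact (LinearEquiv.map_eq_zero_iff P).1 h2

end

/-! ### The model `W × W`, `W = K^(m+1)` -/

section model

variable {K : Type u} [Field K] {m : ℕ}

/-- the shift `e_{j+1} ↦ e_j` -/
def sh (K : Type u) [Field K] (m : ℕ) : (Fin (m + 1) → K) →ₗ[K] (Fin (m + 1) → K) where
  toFun v i := if h : (i : ℕ) + 1 < m + 1 then v ⟨i + 1, h⟩ else 0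
  map_add' v w := by
    funext i
    by_cases h : (i : ℕ) + 1 < m + 1
    · simp only [dif_pos h, Pi.add_apply]
    · simp only [dif_neg h, Pi.add_apply, add_zero]
  map_smul' c v := by
    funext i
    by_cases h : (i : ℕ) + 1 < m + 1
    · simp only [dif_pos h, Pi.smul_apply, RingHom.id_apply]
    · simp only [dif_neg h, Pi.smul_apply, RingHom.id_apply, smul_zero]

theorem sh_pow (v : Fin (m + 1) → K) (j : ℕ) : ∀ i : Fin (m + 1),
    ((sh K m)^[j] v) i = if h : (i : ℕ) + j < m + 1 then v ⟨i + j, h⟩ else 0 := by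
  induction j generalizing v with
  | zero =>
    intro i
    rw [Function.iterate_zero, id_eq, dif_pos (by have := i.2; omega)]
    rfl
  | succ j ih =>
    intro i
    rw [Function.iterate_succ, Function.comp_apply, ih]
    by_cases h : (i : ℕ) + (j + 1) < m + 1
    · rw [dif_pos h, dif_pos (by omega)]
      change (if h : (i : ℕ) + j + 1 < m + 1 then v ⟨i + j + 1, h⟩ else 0) = _
      rw [dif_pos (by omega)]
      rfl
    · rw [dif_neg h]
      by_cases h' : (i : ℕ) + j < m + 1
      · rw [dif_pos h']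
        change (if h : (i : ℕ) + j + 1 < m + 1 then v ⟨i + j + 1, h⟩ else 0) = _
        rw [dif_neg (by omega)]
      · rw [dif_neg h']

theorem sh_zero (v : Fin (m + 1) → K) (j : Fin (m + 1)) : ((sh K m)^[j] v) 0 = v j := by
  rw [sh_pow, dif_pos (by have := j.2; simp only [Fin.val_zero, zero_add]; omega)]
  congr 1
  apply Fin.ext
  simp

/-- `1 - sh` is injective -/
theorem sh_fix (v : Fin (m + 1) → K) (h : sh K m v = v) : v = 0 := by
  have h1 : ∀ j, (sh K m)^[j] v = v := by
    intro j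
    induction j with
    | zero => rfl
    | succ j ih => rw [Function.iterate_succ, Function.comp_apply, h, ih]
  have h2 := h1 (m + 1)
  funext i
  rw [← h2, sh_pow, dif_neg (by omega)]
  rfl

/-- `γ E_{00}` -/
def ga (γ : K) : (Fin (m + 1) → K) →ₗ[K] (Fin (m + 1) → K) where
  toFun v := Pi.single 0 (γ * v 0)
  map_add' v w := by
    rw [Pi.add_apply, mul_add, Pi.single_add]
  map_smul' c v := by
    rw [Pi.smul_apply, smul_eq_mul, RingHom.id_apply, ← Pi.single_smul, smul_eq_mul]
    congr 1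
    ring

/-- the universal rigid pair -/
theorem rigid_pair {γ : K} (hγ : γ ≠ 0) (hg : ∀ σ : K ≃+* K, σ γ = γ → ∀ a, σ a = a)
    (g : (Fin (m + 1) → K) → (Fin (m + 1) → K)) (σ : K ≃+* K) (g0 : ∀ v, g v = 0 → v = 0)
    (gs : ∀ (a : K) v, g (a • v) = σ a • g v) (h1 : ∀ v, g (sh K m v) = sh K m (g v))
    (h2 : ∀ v, g (ga γ v) = ga γ (g v)) : ∃ c : Kˣ, ∀ v, g v = (c : K) • v := by
  have h1' : ∀ (j : ℕ) v, g ((sh K m)^[j] v) = (sh K m)^[j] (g v) := by
    intro j
    induction j with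
    | zero => intro v; rfl
    | succ j ih => intro v; rw [Function.iterate_succ, Function.comp_apply, ih, h1, Function.comp_apply]
  set e : Fin (m + 1) → K := Pi.single 0 1 with he
  have e00 : e 0 = 1 := by rw [he, Pi.single_eq_same]
  have hsing : ∀ a : K, (Pi.single 0 a : Fin (m + 1) → K) = a • e := by
    intro a
    rw [he, ← Pi.single_smul, smul_eq_mul, mul_one]
  have key : ∀ (j : Fin (m + 1)) v, σ (γ * v j) • g e = (γ * g v j) • e := by
    intro j v
    have h3 := h2 ((sh K m)^[j] v)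
    rw [h1'] at h3
    change g (Pi.single 0 (γ * ((sh K m)^[j] v) 0)) = Pi.single 0 (γ * ((sh K m)^[j] (g v)) 0) at h3
    rw [sh_zero, sh_zero, hsing, hsing, gs] at h3
    exact h3
  have hge : g e ≠ 0 := by
    intro h
    have := g0 e h
    rw [this] at e00
    exact zero_ne_one e00
  have k0 := key 0 e
  rw [e00, mul_one] at k0
  have hσγ : σ γ ≠ 0 := by
    rw [Ne, map_eq_zero]
    exact hγ
  have hc : g e = ((σ γ)⁻¹ * (γ * g e 0)) • e := by
    rw [mul_smul, ← k0, smul_smul, inv_mul_cancel₀ hσγ, one_smul]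
  have hc0 : g e 0 = (σ γ)⁻¹ * (γ * g e 0) := by
    have := congrFun hc 0
    rwa [Pi.smul_apply, e00, smul_eq_mul, mul_one] at this
  have hne : g e 0 ≠ 0 := by
    intro h
    rw [h, mul_zero, mul_zero, zero_smul] at hc
    exact hge hc
  have hσ : σ γ = γ := by
    have : σ γ * g e 0 = γ * g e 0 := by
      rw [hc0, ← mul_assoc, mul_inv_cancel₀ hσγ, one_mul, ← hc0]
    exact mul_right_cancel₀ hne this
  have hσ' := hg σ hσ
  rw [← hc0] at hc
  refine ⟨Units.mk0 _ hne, fun v => ?_⟩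
  funext j
  have h4 := key j v
  rw [hσ', hc, smul_smul] at h4
  have h5 := congrFun h4 0
  rw [Pi.smul_apply, Pi.smul_apply, e00, smul_eq_mul, smul_eq_mul, mul_one, mul_one, mul_assoc] at h5
  have h6 := mul_left_cancel₀ hγ h5
  rw [← h6, Pi.smul_apply, Units.val_mk0, smul_eq_mul, mul_comm]

/-- `(x, y) ↦ (x, M x + P y)` -/
def gr {W : Type v} [AddCommGroup W] [Module K W] (M : W →ₗ[K] W) (P : W ≃ₗ[K] W) : (W × W) ≃ₗ[K] (W × W) where
  toFun p := (p.1, M p.1 + P p.2)
  invFun p := (p.1, P.symm (p.2 - M p.1))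
  left_inv p := by
    simp
  right_inv p := by
    simp
  map_add' p q := by
    ext
    · rfl
    · simp only [Prod.fst_add, Prod.snd_add, map_add]
      abel
  map_smul' c p := by
    ext
    · rfl
    · simp only [Prod.smul_fst, Prod.smul_snd, map_smul, RingHom.id_apply, smul_add]

/-- the model configuration -/
theorem cfg_model [Finite K] (E : Submodule K (Fin (m + 1) → K)) (hE : 2 * finrank K E ≤ m + 1) :
    ∃ G : Fin 4 → (((Fin (m + 1) → K) × (Fin (m + 1) → K)) ≃ₗ[K] ((Fin (m + 1) → K) × (Fin (m + 1) → K))),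
      Cfg (Submodule.prod ⊤ ⊥) (Submodule.prod ⊤ E) G := by
  obtain ⟨γ, hγ, hg⟩ := exists_gen K
  have hf : finrank K (Fin (m + 1) → K) = m + 1 := by rw [finrank_fin_fun]
  obtain ⟨P, hP⟩ := exists_disj E E (by rw [hf]; omega)
  let N1 : (Fin (m + 1) → K) →ₗ[K] (Fin (m + 1) → K) := LinearMap.id - sh K m
  obtain ⟨Q, hQ⟩ := exists_disj E (E.map N1) (by
    have := Submodule.finrank_map_le N1 E
    rw [hf]; omega)
  refine ⟨![LinearEquiv.prodComm K _ _, gr LinearMap.id P, gr (sh K m) Q, gr (ga γ) (LinearEquiv.refl K _)],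
    ⟨?_, ?_, ?_, ?_⟩⟩
  · rintro ⟨x, y⟩
    refine ⟨(x, 0), ⟨Submodule.mem_top, Submodule.zero_mem _⟩, (y, 0), ⟨Submodule.mem_top, Submodule.zero_mem _⟩, ?_⟩
    change (x, y) = (x, 0) + (0, y)
    rw [Prod.mk_add_mk, add_zero, zero_add]
  · rintro ⟨x, y⟩ h1 h2
    exact Prod.ext ((Submodule.mem_bot K).1 h2.2) ((Submodule.mem_bot K).1 h1.2)
  · intro k hk hA hG
    obtain ⟨k0, σ, ks⟩ := id hk
    have a1 : ∀ x, (k (x, 0)).2 = 0 := fun x =>
      (Submodule.mem_bot K).1 (hA (x, 0) ⟨Submodule.mem_top, Submodule.zero_mem _⟩).2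
    have a2 : ∀ y, (k (0, y)).1 = 0 := fun y =>
      (Submodule.mem_bot K).1 (hG 0 (y, 0) ⟨Submodule.mem_top, Submodule.zero_mem _⟩).2
    have sp : ∀ x y, k (x, y) = k (x, 0) + k (0, y) := by
      intro x y
      rw [← k0, Prod.mk_add_mk, add_zero, zero_add]
    have a3 : ∀ x, (k (0, x)).2 = (k (x, 0)).1 := by
      intro x
      have := (Submodule.mem_bot K).1 (hG 1 (x, 0) ⟨Submodule.mem_top, Submodule.zero_mem _⟩).2
      change P.symm ((k (x, x + P 0)).2 - (k (x, x + P 0)).1) = 0 at this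
      rw [map_zero, add_zero, LinearEquiv.map_eq_zero_iff, sub_eq_zero, sp, Prod.snd_add, Prod.fst_add, a1, a2,
        zero_add, add_zero] at this
      exact this
    let g : (Fin (m + 1) → K) → (Fin (m + 1) → K) := fun x => (k (x, 0)).1
    have hk' : ∀ x y, k (x, y) = (g x, g y) := by
      intro x y
      rw [sp]
      ext1
      · rw [Prod.fst_add, a2, add_zero]
      · rw [Prod.snd_add, a1, zero_add, a3]
    have gr' : ∀ (M : (Fin (m + 1) → K) →ₗ[K] (Fin (m + 1) → K)) (R : (Fin (m + 1) → K) ≃ₗ[K] (Fin (m + 1) → K)) x,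
        (gr M R).symm (k (gr M R (x, 0))) ∈ Submodule.prod (⊤ : Submodule K (Fin (m + 1) → K)) ⊥ →
        g (M x) = M (g x) := by
      intro M R x h
      have := (Submodule.mem_bot K).1 h.2
      change R.symm ((k (x, M x + R 0)).2 - M (k (x, M x + R 0)).1) = 0 at this
      rw [map_zero, add_zero, LinearEquiv.map_eq_zero_iff, sub_eq_zero, hk'] at this
      exact this
    obtain ⟨c, hc⟩ := rigid_pair hγ hg g σ (fun v hv => by
        have h1 : k (v, 0) = 0 := by
          ext1
          · exact hv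
          · exact a1 v
        have h2 := k.injective (h1.trans (semi_zero hk).symm)
        exact congrArg Prod.fst h2)
      (fun a v => by
        have := ks a (v, 0)
        rw [Prod.smul_mk, smul_zero] at this
        exact congrArg Prod.fst this)
      (fun x => gr' _ _ x (hG 2 (x, 0) ⟨Submodule.mem_top, Submodule.zero_mem _⟩))
      (fun x => gr' _ _ x (hG 3 (x, 0) ⟨Submodule.mem_top, Submodule.zero_mem _⟩))
    refine ⟨c, ?_⟩
    rintro ⟨x, y⟩
    rw [hk', hc, hc]
    rfl
  · rintro ⟨x, y⟩ hx h0 h1 h2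
    have b0 : y ∈ E := hx.2
    have b1 : x ∈ E := h0.2
    have b2 : P.symm (y - x) ∈ E := h1.2
    have b3 : Q.symm (y - sh K m x) ∈ E := h2.2
    have c1 : P.symm (y - x) = 0 := hP _ b2 (by
      rw [LinearEquiv.apply_symm_apply]
      exact E.sub_mem b0 b1)
    rw [LinearEquiv.map_eq_zero_iff, sub_eq_zero] at c1
    subst c1
    have c2 : Q.symm (y - sh K m y) = 0 := hQ _ b3 (by
      rw [LinearEquiv.apply_symm_apply]
      exact ⟨y, b0, rfl⟩)
    rw [LinearEquiv.map_eq_zero_iff, sub_eq_zero] at c2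
    have c3 := sh_fix y c2.symm
    rw [c3]
    rfl

end model

/-- **the configuration** -/
theorem exists_cfg {K : Type u} [Field K] [Finite K] {X : Type v} [AddCommGroup X] [Module K X] [Module.Finite K X]
    (A C : Submodule K X) (hAC : A ≤ C) (a ε : ℕ) (ha : finrank K A = a) (ha1 : 1 ≤ a)
    (hX : finrank K X = 2 * a) (hC : finrank K C = a + ε) (hε : 2 * ε ≤ a) :
    ∃ G : Fin 4 → (X ≃ₗ[K] X), Cfg A C G := by
  obtain ⟨m, rfl⟩ : ∃ m, a = m + 1 := ⟨a - 1, by omega⟩
  obtain ⟨D, hD⟩ := A.exists_isCompl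
  have h1 := Submodule.finrank_add_eq_of_isCompl hD
  have hf : finrank K (Fin (m + 1) → K) = m + 1 := by rw [finrank_fin_fun]
  let f : A ≃ₗ[K] (Fin (m + 1) → K) := LinearEquiv.ofFinrankEq _ _ (by rw [hf, ha])
  let g : D ≃ₗ[K] (Fin (m + 1) → K) := LinearEquiv.ofFinrankEq _ _ (by rw [hf]; omega)
  let e : X ≃ₗ[K] ((Fin (m + 1) → K) × (Fin (m + 1) → K)) :=
    (Submodule.prodEquivOfIsCompl A D hD).symm.trans (f.prodCongr g)
  have heA : ∀ x, x ∈ A ↔ (e x).2 = 0 := by
    intro x
    obtain ⟨⟨y, z⟩, rfl⟩ := (Submodule.prodEquivOfIsCompl A D hD).surjective x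
    have h2 : e ((Submodule.prodEquivOfIsCompl A D hD) (y, z)) = (f y, g z) := by
      change (f.prodCongr g) ((Submodule.prodEquivOfIsCompl A D hD).symm _) = _
      rw [LinearEquiv.symm_apply_apply]
      rfl
    rw [h2]
    change _ ↔ g z = 0
    rw [LinearEquiv.map_eq_zero_iff, Submodule.coe_prodEquivOfIsCompl', Submodule.add_mem_iff_right _ y.2]
    constructor
    · intro hy
      exact Subtype.ext (Submodule.disjoint_def.1 hD.disjoint _ hy z.2)
    · rintro rfl
      exact A.zero_mem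
  let E : Submodule K (Fin (m + 1) → K) := C.comap ((e.symm : ((Fin (m + 1) → K) × (Fin (m + 1) → K)) →ₗ[K] X).comp
    (LinearMap.inr K (Fin (m + 1) → K) (Fin (m + 1) → K)))
  have hEC : ∀ x, x ∈ C ↔ (e x).2 ∈ E := by
    intro x
    change _ ↔ e.symm (0, (e x).2) ∈ C
    have h3 : e.symm (0, (e x).2) = x - e.symm ((e x).1, 0) := by
      apply e.injective
      rw [map_sub, LinearEquiv.apply_symm_apply, LinearEquiv.apply_symm_apply]
      ext1
      · simp
      · simp
    rw [h3]
    have h4 : e.symm ((e x).1, 0) ∈ C := hAC ((heA _).2 (by rw [LinearEquiv.apply_symm_apply]))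
    exact (Submodule.sub_mem_iff_left _ h4).symm
  have hEd : finrank K E ≤ ε := by
    let φ : ((Fin (m + 1) → K) × E) →ₗ[K] X :=
      (e.symm : ((Fin (m + 1) → K) × (Fin (m + 1) → K)) →ₗ[K] X).comp (LinearMap.prodMap LinearMap.id E.subtype)
    have hφ : ∀ p, φ p ∈ C := by
      rintro ⟨x, y⟩
      rw [hEC]
      change (e (e.symm (x, (y : _)))).2 ∈ E
      rw [LinearEquiv.apply_symm_apply]
      exact y.2
    have hinj : Function.Injective (LinearMap.codRestrict C φ hφ) := by
      rintro ⟨x, y⟩ ⟨x', y'⟩ h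
      have h5 := congrArg Subtype.val h
      change e.symm (x, (y : _)) = e.symm (x', (y' : _)) at h5
      have h6 := e.symm.injective h5
      rw [Prod.mk.injEq] at h6
      rw [Prod.mk.injEq]
      exact ⟨h6.1, Subtype.ext h6.2⟩
    have := LinearMap.finrank_le_finrank_of_injective hinj
    rw [finrank_prod, hf, hC] at this
    omega
  obtain ⟨G, hG⟩ := cfg_model E (by omega)
  have hA' : ∀ x, x ∈ A ↔ e x ∈ Submodule.prod (⊤ : Submodule K (Fin (m + 1) → K)) (⊥ : Submodule K (Fin (m + 1) → K)) := by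
    intro x
    rw [heA, Submodule.mem_prod, Submodule.mem_bot]
    exact ⟨fun h => ⟨Submodule.mem_top, h⟩, fun h => h.2⟩
  have hC' : ∀ x, x ∈ C ↔ e x ∈ Submodule.prod (⊤ : Submodule K (Fin (m + 1) → K)) E := by
    intro x
    rw [hEC, Submodule.mem_prod]
    exact ⟨fun h => ⟨Submodule.mem_top, h⟩, fun h => h.2⟩
  refine ⟨fun i => e.trans ((G i).trans e.symm), ⟨fun x => ?_, fun x h1 h2 => ?_, fun k hk hkA hkG => ?_,
    fun x h0 h1 h2 h3 => ?_⟩⟩
  · obtain ⟨a, ha, b, hb, h⟩ := hG.span (e x)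
    refine ⟨e.symm a, (hA' _).2 (by rwa [LinearEquiv.apply_symm_apply]), e.symm b,
      (hA' _).2 (by rwa [LinearEquiv.apply_symm_apply]), ?_⟩
    change x = e.symm a + e.symm (G 0 (e (e.symm b)))
    rw [LinearEquiv.apply_symm_apply, ← map_add, ← h, LinearEquiv.symm_apply_apply]
  · change e.symm ((G 0).symm (e x)) ∈ A at h2
    rw [hA', LinearEquiv.apply_symm_apply] at h2
    exact (LinearEquiv.map_eq_zero_iff e).1 (hG.dis (e x) ((hA' x).1 h1) h2)
  · obtain ⟨k0, σ, ks⟩ := id hk
    let k' : Equiv.Perm ((Fin (m + 1) → K) × (Fin (m + 1) → K)) := (e.symm.toEquiv.trans k).trans e.toEquiv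
    have hk' : ∀ p, k' p = e (k (e.symm p)) := fun _ => rfl
    obtain ⟨c, hc⟩ := hG.rig k' ⟨fun p q => by rw [hk', hk', hk', map_add, k0, map_add],
        σ, fun a p => by rw [hk', hk', map_smul, ks, map_smul]⟩
      (fun p hp => by
        rw [hk', ← hA']
        exact hkA _ ((hA' _).2 (by rwa [LinearEquiv.apply_symm_apply])))
      (fun i p hp => by
        have := hkG i (e.symm p) ((hA' _).2 (by rwa [LinearEquiv.apply_symm_apply]))
        change e.symm ((G i).symm (e (k (e.symm (G i (e (e.symm p))))))) ∈ A at this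
        rw [LinearEquiv.apply_symm_apply, hA', LinearEquiv.apply_symm_apply] at this
        exact this)
    refine ⟨c, fun v => ?_⟩
    have := hc (e v)
    rw [hk', LinearEquiv.symm_apply_apply, ← map_smul] at this
    exact e.injective this
  · have tr : ∀ i, (e.trans ((G i).trans e.symm)).symm x ∈ C → (G i).symm (e x) ∈ Submodule.prod (⊤ : Submodule K (Fin (m + 1) → K)) E := by
      intro i h
      change e.symm ((G i).symm (e x)) ∈ C at h
      rw [hC', LinearEquiv.apply_symm_apply] at h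
      exact h
    have := hG.int (e x) ((hC' x).1 h0) (tr 0 h1) (tr 1 h2) (tr 2 h3)
    exact (LinearEquiv.map_eq_zero_iff e).1 this

end Cfsg.Agent.H754.FC
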