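import Cfsg.Agent.H754.FC.Cfg

/-!
# S5764, StmtRed, case (II): the core (helper754)

`V = X × Y`, `A ≤ C ≤ X`, `S` fixes `A × 0` and `C × Y`.
-/

set_option autoImplicit false

namespace Cfsg.Agent.H754.FC

open Cfsg.Agent.H198.FC Module

universe u v

variable {K : Type u} [Field K] {X Y : Type v} [AddCommGroup X] [Module K X] [AddCommGroup Y] [Module K Y]

/-! ### The induced group on `Y = (C × Y) / (C × 0)` -/

section ind

variable (S : Subgroup (Equiv.Perm (X × Y))) (C : Submodule K X)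

/-- the stabilizer of `C × 0` -/
def stC : Subgroup (Equiv.Perm (X × Y)) where
  carrier := {s | s ∈ S ∧ ∀ p, s p ∈ C.prod (⊥ : Submodule K Y) ↔ p ∈ C.prod (⊥ : Submodule K Y)}
  one_mem' := ⟨one_mem _, fun _ => Iff.rfl⟩
  mul_mem' := by
    rintro s t ⟨hs, hs'⟩ ⟨ht, ht'⟩
    exact ⟨mul_mem hs ht, fun p => (hs' (t p)).trans (ht' p)⟩
  inv_mem' := by
    rintro s ⟨hs, hs'⟩
    refine ⟨inv_mem hs, fun p => ?_⟩
    rw [← hs', app_inv]

variable {S C}

theorem stC_le : stC S C ≤ S := fun _ h => h.1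

theorem stC_snd (hS : S ≤ Semi K (X × Y)) {s : Equiv.Perm (X × Y)} (hs : s ∈ stC S C) {x : X} (hx : x ∈ C) (y : Y) :
    (s (x, y)).2 = (s (0, y)).2 := by
  have h1 : s (x, y) = s (x, 0) + s (0, y) := by
    rw [← semi_add (hS hs.1), Prod.mk_add_mk, add_zero, zero_add]
  have h2 := ((hs.2 (x, 0)).2 ⟨hx, Submodule.zero_mem _⟩).2
  rw [h1, Prod.snd_add, (Submodule.mem_bot K).1 h2, zero_add]

variable (S C) in
/-- the action on `Y` -/
def ind (hS : S ≤ Semi K (X × Y)) (invB : ∀ g ∈ S, ∀ v ∈ C.prod (⊤ : Submodule K Y), g v ∈ C.prod (⊤ : Submodule K Y)) :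
    stC S C →* Equiv.Perm Y where
  toFun s :=
    { toFun := fun y => ((s : Equiv.Perm (X × Y)) (0, y)).2
      invFun := fun y => (((s⁻¹ : stC S C) : Equiv.Perm (X × Y)) (0, y)).2
      left_inv := fun y => by
        have h1 := (invB s s.2.1 (0, y) ⟨C.zero_mem, Submodule.mem_top⟩).1
        have h2 := stC_snd hS (s⁻¹ : stC S C).2 h1 ((s : Equiv.Perm (X × Y)) (0, y)).2
        change (((s⁻¹ : stC S C) : Equiv.Perm (X × Y)) (0, ((s : Equiv.Perm (X × Y)) (0, y)).2)).2 = y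
        rw [← h2]
        change ((s : Equiv.Perm (X × Y))⁻¹ ((s : Equiv.Perm (X × Y)) (0, y))).2 = y
        rw [inv_app]
      right_inv := fun y => by
        have h1 := (invB (s⁻¹ : stC S C) (s⁻¹ : stC S C).2.1 (0, y) ⟨C.zero_mem, Submodule.mem_top⟩).1
        have h2 := stC_snd hS s.2 h1 (((s⁻¹ : stC S C) : Equiv.Perm (X × Y)) (0, y)).2
        change ((s : Equiv.Perm (X × Y)) (0, (((s⁻¹ : stC S C) : Equiv.Perm (X × Y)) (0, y)).2)).2 = y
        rw [← h2]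
        change ((s : Equiv.Perm (X × Y)) ((s : Equiv.Perm (X × Y))⁻¹ (0, y))).2 = y
        rw [app_inv] }
  map_one' := by
    apply Equiv.ext
    intro y
    rfl
  map_mul' s t := by
    apply Equiv.ext
    intro y
    have h1 := (invB t t.2.1 (0, y) ⟨C.zero_mem, Submodule.mem_top⟩).1
    exact stC_snd hS s.2 h1 ((t : Equiv.Perm (X × Y)) (0, y)).2

variable (hS : S ≤ Semi K (X × Y))
  (invB : ∀ g ∈ S, ∀ v ∈ C.prod (⊤ : Submodule K Y), g v ∈ C.prod (⊤ : Submodule K Y))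

theorem ind_apply (s : stC S C) (y : Y) : ind S C hS invB s y = ((s : Equiv.Perm (X × Y)) (0, y)).2 := rfl

theorem ind_range_le : (ind S C hS invB).range ≤ Semi K Y := by
  rintro _ ⟨s, rfl⟩
  obtain ⟨h0, σ, hs⟩ := hS s.2.1
  refine ⟨fun y y' => ?_, σ, fun a y => ?_⟩
  · rw [ind_apply, ind_apply, ind_apply, ← Prod.snd_add, ← h0, Prod.mk_add_mk, add_zero]
  · rw [ind_apply, ind_apply, ← Prod.smul_snd, ← hs, Prod.smul_mk, smul_zero]

theorem hm_mem_ind (hh : ∀ a, hm K (X × Y) a ∈ S) (a : Kˣ) : hm K Y a ∈ (ind S C hS invB).range := by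
  have h1 : hm K (X × Y) a ∈ stC S C := by
    refine ⟨hh a, fun p => ?_⟩
    rw [hm_apply]
    exact Submodule.smul_mem_iff _ a.ne_zero
  refine ⟨⟨_, h1⟩, ?_⟩
  apply Equiv.ext
  intro y
  rw [ind_apply, hm_apply]
  rfl

theorem ind_solvable (hsol : Group.IsSolvable S) : Group.IsSolvable (ind S C hS invB).range := by
  have h1 : Group.IsSolvable (stC S C) :=
    Group.isSolvable_of_isSolvable_injective (f := Subgroup.inclusion (stC_le (S := S) (C := C)))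
      (Subgroup.inclusion_injective _)
  exact Group.isSolvable_of_surjective (f := (ind S C hS invB).rangeRestrict)
    (ind S C hS invB).rangeRestrict_surjective

end ind

/-! ### The core -/

/-- `(x', y') ↦ (G⁻¹ (x' - φ y'), x y')`, the inverse of `(1 + φ) (G ⊕ x⁻¹)` -/
def zz (G : X ≃ₗ[K] X) (x : Y ≃ₗ[K] Y) (φ : Y →ₗ[K] X) : (X × Y) ≃ₗ[K] (X × Y) where
  toFun p := (G.symm (p.1 - φ p.2), x p.2)
  invFun p := (G p.1 + φ (x.symm p.2), x.symm p.2)
  left_inv p := by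
    simp
  right_inv p := by
    simp
  map_add' p q := by
    ext
    · simp only [Prod.fst_add, Prod.snd_add, map_add, map_sub]
      abel
    · simp only [Prod.snd_add, map_add]
  map_smul' c p := by
    ext
    · simp only [Prod.smul_fst, Prod.smul_snd, map_smul, map_sub, RingHom.id_apply, smul_sub]
    · simp only [Prod.smul_snd, map_smul, RingHom.id_apply]

theorem zz_apply (G : X ≃ₗ[K] X) (x : Y ≃ₗ[K] Y) (φ : Y →ₗ[K] X) (a : X) (b : Y) :
    (zz G x φ).toEquiv (a, b) = (G.symm (a - φ b), x b) := rfl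

theorem zz_inv (G : X ≃ₗ[K] X) (x : Y ≃ₗ[K] Y) (φ : Y →ₗ[K] X) (a : X) (b : Y) :
    ((zz G x φ).toEquiv : Equiv.Perm (X × Y))⁻¹ (a, b) = (G a + φ (x.symm b), x.symm b) := rfl

section core

variable (S : Subgroup (Equiv.Perm (X × Y))) (hS : S ≤ Semi K (X × Y)) (A C : Submodule K X)
  (invA : ∀ g ∈ S, ∀ v ∈ A.prod (⊥ : Submodule K Y), g v ∈ A.prod (⊥ : Submodule K Y))
  (invB : ∀ g ∈ S, ∀ v ∈ C.prod (⊤ : Submodule K Y), g v ∈ C.prod (⊤ : Submodule K Y))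
  (G : Fin 4 → (X ≃ₗ[K] X)) (x : Fin 4 → (Y ≃ₗ[K] Y)) (φ : Fin 4 → (Y →ₗ[K] X))

/-- the elements of the intersection -/
def Int5 (k : Equiv.Perm (X × Y)) : Prop :=
  k ∈ hat S (A.prod (⊥ : Submodule K Y)) hS invA ∧
  ∀ i, ((zz (G i) (x i) (φ i)).toEquiv : Equiv.Perm (X × Y)) * k *
    ((zz (G i) (x i) (φ i)).toEquiv : Equiv.Perm (X × Y))⁻¹ ∈ hat S (A.prod (⊥ : Submodule K Y)) hS invA

variable {S hS A C invA G x φ}

theorem Int5.inv {k : Equiv.Perm (X × Y)} (h : Int5 S hS A invA G x φ k) : Int5 S hS A invA G x φ k⁻¹ := by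
  refine ⟨inv_mem h.1, fun i => ?_⟩
  have := inv_mem (h.2 i)
  rw [mul_inv_rev, mul_inv_rev, inv_inv, ← mul_assoc] at this
  exact this

theorem hat_mapA {k : Equiv.Perm (X × Y)} (hk : k ∈ hat S (A.prod (⊥ : Submodule K Y)) hS invA) :
    ∀ v ∈ A.prod (⊥ : Submodule K Y), k v ∈ A.prod (⊥ : Submodule K Y) := by
  obtain ⟨_, s, hs, hk⟩ := hk
  intro v hv
  have := (A.prod (⊥ : Submodule K Y)).add_mem (hk v) (invA s hs v hv)
  rwa [sub_add_cancel] at this

include invB in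
theorem hat_mapB (hAC : A ≤ C) {k : Equiv.Perm (X × Y)} (hk : k ∈ hat S (A.prod (⊥ : Submodule K Y)) hS invA) :
    ∀ v ∈ C.prod (⊤ : Submodule K Y), k v ∈ C.prod (⊤ : Submodule K Y) := by
  obtain ⟨_, s, hs, hk⟩ := hk
  intro v hv
  have := (C.prod (⊤ : Submodule K Y)).add_mem (Submodule.prod_mono hAC bot_le (hk v)) (invB s hs v hv)
  rwa [sub_add_cancel] at this

theorem Int5.conjA {k : Equiv.Perm (X × Y)} (h : Int5 S hS A invA G x φ k) (i : Fin 4) {v : X} (hv : v ∈ A) :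
    (k (G i v, 0)).2 = 0 ∧ (G i).symm (k (G i v, 0)).1 ∈ A := by
  have h1 := hat_mapA (h.2 i) (v, 0) ⟨hv, Submodule.zero_mem _⟩
  rw [Equiv.Perm.mul_apply, Equiv.Perm.mul_apply, zz_inv, map_zero, map_zero, add_zero] at h1
  obtain ⟨h2, h3⟩ := h1
  have h4 : (k (G i v, 0)).2 = 0 := by
    have := (Submodule.mem_bot K).1 h3
    exact (LinearEquiv.map_eq_zero_iff (x i)).1 this
  refine ⟨h4, ?_⟩
  change (G i).symm ((k (G i v, 0)).1 - φ i (k (G i v, 0)).2) ∈ A at h2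
  rwa [h4, map_zero, sub_zero] at h2

theorem Int5.snd {k : Equiv.Perm (X × Y)} (h : Int5 S hS A invA G x φ k)
    (hG : ∀ x : X, ∃ a ∈ A, ∃ b ∈ A, x = a + G 0 b) (v : X) : (k (v, 0)).2 = 0 := by
  obtain ⟨a, ha, b, hb, rfl⟩ := hG v
  have h1 : k (a + G 0 b, 0) = k (a, 0) + k (G 0 b, 0) := by
    rw [← semi_add h.1.1, Prod.mk_add_mk, add_zero]
  rw [h1, Prod.snd_add, (h.conjA 0 hb).1, add_zero]
  exact (Submodule.mem_bot K).1 (hat_mapA h.1 (a, 0) ⟨ha, Submodule.zero_mem _⟩).2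

theorem Int5.scalar {k : Equiv.Perm (X × Y)} (h : Int5 S hS A invA G x φ k)
    (hG : ∀ x : X, ∃ a ∈ A, ∃ b ∈ A, x = a + G 0 b)
    (rig : ∀ k ∈ Semi K X, (∀ v ∈ A, k v ∈ A) → (∀ i, ∀ v ∈ A, (G i).symm (k (G i v)) ∈ A) →
      ∃ c : Kˣ, ∀ v, k v = (c : K) • v) :
    ∃ c : Kˣ, ∀ v, k (v, 0) = ((c : K) • v, 0) := by
  obtain ⟨k0, σ, ks⟩ := id h.1.1
  have e : ∀ v, k (v, 0) = ((k (v, 0)).1, 0) := fun v => Prod.ext rfl (h.snd hG v)
  have e' : ∀ v, k⁻¹ (v, 0) = ((k⁻¹ (v, 0)).1, 0) := fun v => Prod.ext rfl (h.inv.snd hG v)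
  let g : Equiv.Perm X :=
    { toFun := fun v => (k (v, 0)).1
      invFun := fun v => (k⁻¹ (v, 0)).1
      left_inv := fun v => by
        change (k⁻¹ ((k (v, 0)).1, 0)).1 = v
        rw [← e, inv_app]
      right_inv := fun v => by
        change (k ((k⁻¹ (v, 0)).1, 0)).1 = v
        rw [← e', app_inv] }
  have hg : ∀ v, g v = (k (v, 0)).1 := fun _ => rfl
  obtain ⟨c, hc⟩ := rig g ⟨fun v w => by
      rw [hg, hg, hg, ← Prod.fst_add, ← k0, Prod.mk_add_mk, add_zero],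
      σ, fun a v => by rw [hg, hg, ← Prod.smul_fst, ← ks, Prod.smul_mk, smul_zero]⟩
    (fun v hv => (hat_mapA h.1 (v, 0) ⟨hv, Submodule.zero_mem _⟩).1)
    (fun i v hv => (h.conjA i hv).2)
  exact ⟨c, fun v => by rw [e, ← hg, hc]⟩

include invB in
/-- elements of `hat` acting as a scalar on `X` induce elements of `ind` on `Y` -/
theorem exists_ind (hAC : A ≤ C) {k : Equiv.Perm (X × Y)} (hk : k ∈ hat S (A.prod (⊥ : Submodule K Y)) hS invA)
    {c : Kˣ} (hc : ∀ v, k (v, 0) = ((c : K) • v, 0)) :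
    ∃ κ ∈ (ind S C hS invB).range, ∀ y, κ y = (k (0, y)).2 := by
  obtain ⟨hk1, s, hs, hk⟩ := hk
  have hle : ∀ v, k v - s v ∈ C.prod (⊥ : Submodule K Y) := fun v => Submodule.prod_mono hAC le_rfl (hk v)
  have hst : s ∈ stC S C := by
    refine ⟨hs, fun p => ⟨fun hp => ?_, fun hp => ?_⟩⟩
    · have h1 := (C.prod (⊥ : Submodule K Y)).add_mem (hle p) hp
      rw [sub_add_cancel] at h1
      obtain ⟨h2, h3⟩ := h1
      have h4 : k ((c⁻¹ : Kˣ) • (k p).1, 0) = k p := by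
        rw [hc]
        refine Prod.ext ?_ ((Submodule.mem_bot K).1 h3).symm
        rw [Units.smul_def, smul_smul, Units.mul_inv, one_smul]
      have h5 := k.injective h4
      rw [← h5]
      refine ⟨?_, Submodule.zero_mem _⟩
      exact C.smul_mem _ h2
    · obtain ⟨h2, h3⟩ := hp
      have h4 : p = (p.1, 0) := Prod.ext rfl ((Submodule.mem_bot K).1 h3)
      have h5 : k p ∈ C.prod (⊥ : Submodule K Y) := by
        rw [h4, hc]
        exact ⟨C.smul_mem _ h2, Submodule.zero_mem _⟩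
      have := (C.prod (⊥ : Submodule K Y)).sub_mem h5 (hle p)
      rwa [sub_sub_cancel] at this
  refine ⟨ind S C hS invB ⟨s, hst⟩, ⟨_, rfl⟩, fun y => ?_⟩
  rw [ind_apply]
  have := (Submodule.mem_bot K).1 (hle (0, y)).2
  rw [Prod.snd_sub, sub_eq_zero] at this
  exact this.symm

include invB in
/-- **core of case (II)** -/
theorem Int5.core (hAC : A ≤ C) [Nontrivial X] {k : Equiv.Perm (X × Y)} (h : Int5 S hS A invA G x φ k)
    (hG : ∀ x : X, ∃ a ∈ A, ∃ b ∈ A, x = a + G 0 b)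
    (rig : ∀ k ∈ Semi K X, (∀ v ∈ A, k v ∈ A) → (∀ i, ∀ v ∈ A, (G i).symm (k (G i v)) ∈ A) →
      ∃ c : Kˣ, ∀ v, k v = (c : K) • v) :
    ∃ (c : Kˣ) (κ : Equiv.Perm Y) (θ : Y → X), κ ∈ (ind S C hS invB).range ∧
      (∀ i, ((x i).toEquiv : Equiv.Perm Y) * κ * ((x i).toEquiv : Equiv.Perm Y)⁻¹ ∈ (ind S C hS invB).range) ∧
      (∀ a b, k (a, b) = ((c : K) • a + θ b, κ b)) ∧ (∀ b, θ b ∈ C) ∧
      (∀ i b, (G i).symm (θ b + φ i ((c : K) • b - κ b)) ∈ C) ∧
      (∀ (a : K) b, κ (a • b) = a • κ b) := by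
  obtain ⟨c, hc⟩ := h.scalar hG rig
  obtain ⟨k0, σ, ks⟩ := id h.1.1
  have hσ : ∀ a : K, σ a = a := by
    intro a
    obtain ⟨v, hv⟩ := exists_ne (0 : X)
    have h1 := ks a (v, 0)
    rw [Prod.smul_mk, smul_zero, hc, hc, Prod.smul_mk, smul_zero] at h1
    have h2 := congrArg Prod.fst h1
    change (c : K) • a • v = σ a • (c : K) • v at h2
    rw [smul_comm, ← sub_eq_zero, ← sub_smul] at h2
    have h3 : (c : K) • v ≠ 0 := smul_ne_zero c.ne_zero hv
    rcases smul_eq_zero.1 h2 with h4 | h4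
    · exact (sub_eq_zero.1 h4).symm
    · exact absurd h4 h3
  obtain ⟨κ, hκ, hκ'⟩ := exists_ind (invB := invB) hAC h.1 hc
  have hk : ∀ a b, k (a, b) = ((c : K) • a + (k (0, b)).1, κ b) := by
    intro a b
    have h1 : k (a, b) = k (a, 0) + k (0, b) := by
      rw [← k0, Prod.mk_add_mk, add_zero, zero_add]
    rw [h1, hc]
    refine Prod.ext rfl ?_
    rw [Prod.snd_add, zero_add, hκ']
  refine ⟨c, κ, fun b => (k (0, b)).1, hκ, fun i => ?_, hk, fun b => ?_, fun i b => ?_, fun a b => ?_⟩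
  · have hci : ∀ v, (((zz (G i) (x i) (φ i)).toEquiv : Equiv.Perm (X × Y)) * k *
        ((zz (G i) (x i) (φ i)).toEquiv : Equiv.Perm (X × Y))⁻¹) (v, 0) = ((c : K) • v, 0) := by
      intro v
      rw [Equiv.Perm.mul_apply, Equiv.Perm.mul_apply, zz_inv, map_zero, map_zero, add_zero, hc, zz_apply,
        map_zero, map_zero, sub_zero, map_smul, LinearEquiv.symm_apply_apply]
    obtain ⟨κ', hκ1, hκ2⟩ := exists_ind (invB := invB) hAC (h.2 i) hci
    have : ((x i).toEquiv : Equiv.Perm Y) * κ * ((x i).toEquiv : Equiv.Perm Y)⁻¹ = κ' := by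
      apply Equiv.ext
      intro y
      rw [hκ2, Equiv.Perm.mul_apply (_ * _), Equiv.Perm.mul_apply (_ * _), Equiv.Perm.mul_apply,
        Equiv.Perm.mul_apply, zz_inv, hk, zz_apply]
      rfl
    rw [this]
    exact hκ1
  · exact (hat_mapB (invB := invB) hAC h.1 (0, b) ⟨C.zero_mem, Submodule.mem_top⟩).1
  · have h1 := (hat_mapB (invB := invB) hAC (h.2 i) (0, x i b) ⟨C.zero_mem, Submodule.mem_top⟩).1
    rw [Equiv.Perm.mul_apply, Equiv.Perm.mul_apply, zz_inv, LinearEquiv.symm_apply_apply, map_zero, zero_add, hk,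
      zz_apply] at h1
    have h2 : (c : K) • φ i b + (k (0, b)).1 - φ i (κ b) = (k (0, b)).1 + φ i ((c : K) • b - κ b) := by
      rw [map_sub, map_smul]
      abel
    rw [h2] at h1
    exact h1
  · have h1 := ks a (0, b)
    rw [hσ, Prod.smul_mk, smul_zero] at h1
    have h2 := congrArg Prod.snd h1
    rw [Prod.smul_snd, ← hκ', ← hκ'] at h2
    exact h2

end core

end Cfsg.Agent.H754.FC
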