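import Cfsg.Agent.H754.FC.Sec
import Cfsg.Agent.H578.Base3

/-!
# S5764, StmtRed: existence of 3-bases on irreducible sections (helper754)
-/

set_option autoImplicit false

namespace Cfsg.Agent.H754.FC

open Cfsg.Agent.H198.FC Module

universe u v

variable {K : Type u} [Field K] {V : Type v} [AddCommGroup V] [Module K V]
  {S : Subgroup (Equiv.Perm V)} {A B : Submodule K V}

/-- `A` as a subgroup of `B` -/
abbrev NN (A B : Submodule K V) : AddSubgroup ↥B := (A.submoduleOf B).toAddSubgroup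

theorem mem_NN {A B : Submodule K V} {v : ↥B} : v ∈ NN A B ↔ (v : V) ∈ A := Iff.rfl

/-- restriction to `B` -/
def rB (hS : S ≤ Semi K V) (invB : ∀ g ∈ S, ∀ v ∈ B, g v ∈ B) (g : S) : ↥B →+ ↥B where
  toFun v := ⟨(g : Equiv.Perm V) v, invB g g.2 v v.2⟩
  map_zero' := Subtype.ext (semi_zero (hS g.2))
  map_add' v w := Subtype.ext (semi_add (hS g.2) v w)

/-- the action on `B / A` -/
def rQ (hS : S ≤ Semi K V) (invA : ∀ g ∈ S, ∀ v ∈ A, g v ∈ A) (invB : ∀ g ∈ S, ∀ v ∈ B, g v ∈ B) (g : S) :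
    (↥B ⧸ NN A B) →+ (↥B ⧸ NN A B) :=
  QuotientAddGroup.map _ _ (rB hS invB g) (fun v hv => invA g g.2 v hv)

theorem rQ_mk (hS : S ≤ Semi K V) (invA : ∀ g ∈ S, ∀ v ∈ A, g v ∈ A) (invB : ∀ g ∈ S, ∀ v ∈ B, g v ∈ B) (g : S)
    (v : ↥B) : rQ hS invA invB g (QuotientAddGroup.mk v) = QuotientAddGroup.mk (rB hS invB g v) := rfl

/-- the action on `B / A` -/
def rho (hS : S ≤ Semi K V) (invA : ∀ g ∈ S, ∀ v ∈ A, g v ∈ A) (invB : ∀ g ∈ S, ∀ v ∈ B, g v ∈ B) :
    S →* Equiv.Perm (↥B ⧸ NN A B) where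
  toFun g :=
    { toFun := rQ hS invA invB g
      invFun := rQ hS invA invB g⁻¹
      left_inv := fun x => by
        obtain ⟨v, rfl⟩ := QuotientAddGroup.mk_surjective x
        rw [rQ_mk, rQ_mk]
        congr 1
        exact Subtype.ext (inv_app _ _)
      right_inv := fun x => by
        obtain ⟨v, rfl⟩ := QuotientAddGroup.mk_surjective x
        rw [rQ_mk, rQ_mk]
        congr 1
        exact Subtype.ext (app_inv _ _) }
  map_one' := by
    apply Equiv.ext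
    intro x
    obtain ⟨v, rfl⟩ := QuotientAddGroup.mk_surjective x
    rfl
  map_mul' g h := by
    apply Equiv.ext
    intro x
    obtain ⟨v, rfl⟩ := QuotientAddGroup.mk_surjective x
    rfl

/-- the image acts by additive maps -/
@[reducible] def rhoAct (hS : S ≤ Semi K V) (invA : ∀ g ∈ S, ∀ v ∈ A, g v ∈ A) (invB : ∀ g ∈ S, ∀ v ∈ B, g v ∈ B) :
    DistribMulAction (rho hS invA invB).range (↥B ⧸ NN A B) where
  smul a x := (a : Equiv.Perm (↥B ⧸ NN A B)) x
  one_smul _ := rfl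
  mul_smul _ _ _ := rfl
  smul_zero := by
    rintro ⟨_, g, rfl⟩
    exact map_zero (rQ hS invA invB g)
  smul_add := by
    rintro ⟨_, g, rfl⟩ x y
    exact map_add (rQ hS invA invB g) x y

/-- **3-base of an irreducible section** -/
theorem exists_sec [Finite K] [Module.Finite K V] (hS : S ≤ Semi K V) (hh : ∀ a, hm K V a ∈ S)
    (hsol : Group.IsSolvable S) (hAB : A ≤ B) (invA : ∀ g ∈ S, ∀ v ∈ A, g v ∈ A) (invB : ∀ g ∈ S, ∀ v ∈ B, g v ∈ B)
    (irr : ∀ C : Submodule K V, A ≤ C → C ≤ B → (∀ g ∈ S, ∀ v ∈ C, g v ∈ C) → C = A ∨ C = B) :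
    ∃ w : Fin 3 → V, Sec S A B w := by
  classical
  have : Finite V := Module.finite_of_finite K
  have : Finite (Equiv.Perm V) := inferInstance
  set ρ := rho hS invA invB with hρ
  have hsol' : Group.IsSolvable ρ.range :=
    Group.isSolvable_of_surjective (f := ρ.rangeRestrict) ρ.rangeRestrict_surjective
  let _ : DistribMulAction ρ.range (↥B ⧸ NN A B) := rhoAct hS invA invB
  have _ : FaithfulSMul ρ.range (↥B ⧸ NN A B) := ⟨fun {a b} h => Subtype.ext (Equiv.ext h)⟩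
  have hcr : ∀ U : AddSubgroup (↥B ⧸ NN A B), (∀ a : ρ.range, ∀ v ∈ U, a • v ∈ U) →
      ∃ W : AddSubgroup (↥B ⧸ NN A B), (∀ a : ρ.range, ∀ w ∈ W, a • w ∈ W) ∧ U ⊓ W = ⊥ ∧ U ⊔ W = ⊤ := by
    intro U hU
    have hU' : ∀ g : S, ∀ v : ↥B, QuotientAddGroup.mk v ∈ U → QuotientAddGroup.mk (rB hS invB g v) ∈ U := by
      intro g v hv
      exact hU ⟨ρ g, g, rfl⟩ _ hv
    let C : Submodule K V :=
      { carrier := {v | ∃ h : v ∈ B, (QuotientAddGroup.mk (⟨v, h⟩ : ↥B) : ↥B ⧸ NN A B) ∈ U}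
        zero_mem' := ⟨B.zero_mem, by
          have : (⟨0, B.zero_mem⟩ : ↥B) = 0 := rfl
          rw [this, QuotientAddGroup.mk_zero]
          exact U.zero_mem⟩
        add_mem' := by
          rintro a b ⟨ha, ha'⟩ ⟨hb, hb'⟩
          refine ⟨B.add_mem ha hb, ?_⟩
          have : (⟨a + b, B.add_mem ha hb⟩ : ↥B) = ⟨a, ha⟩ + ⟨b, hb⟩ := rfl
          rw [this, QuotientAddGroup.mk_add]
          exact U.add_mem ha' hb'
        smul_mem' := by
          rintro c v ⟨hv, hv'⟩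
          refine ⟨B.smul_mem c hv, ?_⟩
          by_cases hc : c = 0
          · subst hc
            have : (⟨(0 : K) • v, B.smul_mem 0 hv⟩ : ↥B) = 0 := Subtype.ext (zero_smul K v)
            rw [this, QuotientAddGroup.mk_zero]
            exact U.zero_mem
          · have := hU' ⟨hm K V (Units.mk0 c hc), hh _⟩ ⟨v, hv⟩ hv'
            exact this }
    have hAC : A ≤ C := by
      intro v hv
      refine ⟨hAB hv, ?_⟩
      have : (QuotientAddGroup.mk (⟨v, hAB hv⟩ : ↥B) : ↥B ⧸ NN A B) = 0 :=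
        (QuotientAddGroup.eq_zero_iff _).2 hv
      rw [this]
      exact U.zero_mem
    have hCB : C ≤ B := fun v hv => hv.1
    rcases irr C hAC hCB (fun g hg v hv => ⟨invB g hg v hv.1, hU' ⟨g, hg⟩ ⟨v, hv.1⟩ hv.2⟩) with hC | hC
    · have hUb : U = ⊥ := by
        rw [eq_bot_iff]
        intro x hx
        obtain ⟨v, rfl⟩ := QuotientAddGroup.mk_surjective x
        have : (v : V) ∈ C := ⟨v.2, hx⟩
        rw [hC] at this
        exact (QuotientAddGroup.eq_zero_iff _).2 this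
      exact ⟨⊤, fun _ _ _ => AddSubgroup.mem_top _, by rw [hUb]; exact bot_inf_eq _, by rw [sup_top_eq]⟩
    · have hUt : U = ⊤ := by
        rw [eq_top_iff]
        intro x _
        obtain ⟨v, rfl⟩ := QuotientAddGroup.mk_surjective x
        have : (v : V) ∈ C := by rw [hC]; exact v.2
        exact this.2
      refine ⟨⊥, fun a w hw => ?_, by rw [inf_bot_eq], by rw [hUt]; exact top_sup_eq _⟩
      rw [AddSubgroup.mem_bot] at hw ⊢
      rw [hw, smul_zero]
  have : Finite ↥B := inferInstance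
  have : Finite (↥B ⧸ NN A B) := inferInstance
  obtain ⟨v₁, v₂, v₃, hv⟩ := Cfsg.Agent.H578.base3 (A := ρ.range) hsol' hcr
  obtain ⟨w₁, rfl⟩ := QuotientAddGroup.mk_surjective v₁
  obtain ⟨w₂, rfl⟩ := QuotientAddGroup.mk_surjective v₂
  obtain ⟨w₃, rfl⟩ := QuotientAddGroup.mk_surjective v₃
  have key : ∀ g : S, ∀ w : ↥B, (g : Equiv.Perm V) w - w ∈ A ↔
      ρ g (QuotientAddGroup.mk w) = QuotientAddGroup.mk w := by
    intro g w
    have h1 : ρ g (QuotientAddGroup.mk w) = QuotientAddGroup.mk (rB hS invB g w) := rfl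
    rw [h1, eq_comm, QuotientAddGroup.eq, mem_NN]
    have h2 : ((-w + rB hS invB g w : ↥B) : V) = (g : Equiv.Perm V) w - w := by
      change -(w : V) + (g : Equiv.Perm V) w = (g : Equiv.Perm V) w - w
      exact neg_add_eq_sub _ _
    rw [h2]
  refine ⟨![w₁, w₂, w₃], ⟨hS, hh, hAB, invA, invB, fun j => ?_, fun g hg hw v hvB => ?_⟩⟩
  · fin_cases j
    · exact w₁.2
    · exact w₂.2
    · exact w₃.2
  · have h1 := hv ⟨ρ ⟨g, hg⟩, ⟨g, hg⟩, rfl⟩ ((key ⟨g, hg⟩ w₁).1 (hw 0)) ((key ⟨g, hg⟩ w₂).1 (hw 1))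
      ((key ⟨g, hg⟩ w₃).1 (hw 2))
    have h2 : ρ ⟨g, hg⟩ = 1 := congrArg Subtype.val h1
    refine (key ⟨g, hg⟩ ⟨v, hvB⟩).2 ?_
    rw [h2]
    rfl

end Cfsg.Agent.H754.FC
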