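import Cfsg.Agent.H754.FC.Trans
import Cfsg.Agent.H754.FC.Irr
import Cfsg.Agent.H200.FC.RedC
import Cfsg.Agent.H246.FC.Three

/-!
# S5764, `StmtRed`: assembly (helper754)
-/

set_option autoImplicit false

namespace Cfsg.Agent.H754.FC

open Cfsg.Agent.H198.FC Module

universe u v v'

/-- the reducible case with a base of size 3 on `B / A`, and `codim B ≤ dim A < dim V / 2` -/
theorem red_core {K : Type u} [Field K] [Finite K] {V : Type v} [AddCommGroup V] [Module K V] [Module.Finite K V]
    {S : Subgroup (Equiv.Perm V)} {A B : Submodule K V} {w : Fin 3 → V} (h : Sec S A B w) (hsol : Group.IsSolvable S)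
    (c : ℕ) (hc : finrank K B + c = finrank K V) (hn : 2 * finrank K A < finrank K V)
    (h1 : 1 ≤ finrank K A) (h2 : c ≤ finrank K A)
    (IH : ∀ m, 2 ≤ m → m < finrank K V → (m = 2 → 4 ≤ Nat.card K) → ThmV.{u, v} K m) : FiveV K V S := by
  by_cases h3 : c + 3 ≤ finrank K A ∨ (finrank K A = 3 ∧ c = 1)
  · exact H246.FC.red_three h c hc hn h3
  rcases Nat.eq_zero_or_pos c with rfl | hc0
  · have hB : B = ⊤ := Submodule.eq_top_of_finrank_eq (by omega)
    subst hB
    exact H200.FC.red_one h (by omega) hn
  · by_cases h6 : finrank K V = 3 * finrank K A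
    · exact H246.FC.fiveV_rigid S h.semi A h.invA _ rfl (Or.inr (Or.inr h6))
    · exact red_two' h hsol c hc hn hc0 h2 (by omega) h6 IH

/-- **the reducible case (without correlations)** -/
theorem stmtRed : StmtRed.{u, v} := by
  intro K _ _ V _ _ _ S hS hh hsol _ IH hW
  obtain ⟨W, hW0, hW1, hW⟩ := hW
  have hWpos : 0 < finrank K W := by
    rw [Nat.pos_iff_ne_zero, Ne, Submodule.finrank_eq_zero]
    exact hW0
  have hWlt : finrank K W < finrank K V := Submodule.finrank_lt hW1
  have : Finite V := Module.finite_of_finite K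
  have : Finite (Submodule K V) := inferInstance
  -- `A` is a maximal invariant subspace of dimension `< n / 2`
  obtain ⟨A, ⟨invA, hA⟩, hAmax⟩ := Set.exists_max_image
    {A : Submodule K V | (∀ g ∈ S, ∀ v ∈ A, g v ∈ A) ∧ 2 * finrank K A < finrank K V} (fun A => finrank K A)
    (Set.toFinite _) ⟨⊥, fun g hg v hv => by
      rw [Submodule.mem_bot] at hv ⊢
      rw [hv, semi_zero (hS hg)], by rw [finrank_bot]; omega⟩
  -- `B` is minimal invariant above `A`
  have hAtop : A ≠ ⊤ := by
    rintro rfl
    rw [finrank_top] at hA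
    omega
  obtain ⟨B, ⟨invB, hAB⟩, hBmin⟩ := Set.exists_min_image
    {B : Submodule K V | (∀ g ∈ S, ∀ v ∈ B, g v ∈ B) ∧ A < B} (fun A => finrank K A)
    (Set.toFinite _) ⟨⊤, fun _ _ _ _ => Submodule.mem_top, lt_top_iff_ne_top.2 hAtop⟩
  have irr : ∀ C : Submodule K V, A ≤ C → C ≤ B → (∀ g ∈ S, ∀ v ∈ C, g v ∈ C) → C = A ∨ C = B := by
    intro C hAC hCB invC
    by_cases hC : C = A
    · exact Or.inl hC
    · right
      have := hBmin C ⟨invC, lt_of_le_of_ne hAC (Ne.symm hC)⟩
      exact Submodule.eq_of_le_of_finrank_le hCB this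
  have hAB' : finrank K A < finrank K B := Submodule.finrank_lt_finrank_of_lt hAB
  have hB : finrank K V ≤ 2 * finrank K B := by
    by_contra hlt
    have := hAmax B ⟨invB, not_le.1 hlt⟩
    omega
  rcases hB.eq_or_lt with hB | hB
  · exact H246.FC.fiveV_rigid S hS B invB _ rfl (Or.inl hB)
  have hBle : finrank K B ≤ finrank K V := Submodule.finrank_le B
  obtain ⟨c, hc⟩ : ∃ c, finrank K B + c = finrank K V := ⟨finrank K V - finrank K B, by omega⟩
  have hne : 1 ≤ finrank K A ∨ 1 ≤ c := by
    by_contra hcon
    have h1 : A = ⊥ := by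
      rw [← Submodule.finrank_eq_zero (R := K)]
      omega
    have h2 : B = ⊤ := Submodule.eq_top_of_finrank_eq (by omega)
    rcases irr W (by rw [h1]; exact bot_le) (by rw [h2]; exact le_top) hW with h | h
    · exact hW0 (h.trans h1)
    · exact hW1 (h.trans h2)
  rcases le_or_gt c (finrank K A) with hca | hca
  · obtain ⟨w, hw⟩ := exists_sec hS hh hsol hAB.le invA invB irr
    exact red_core hw hsol c hc hA (by omega) hca IH
  · obtain ⟨S', hS', hh', hsol', hinv, hfive⟩ := H246.FC.dual_five S hS hh hsol
    refine hfive ?_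
    have fA : finrank K A.dualAnnihilator + finrank K A = finrank K V := by
      rw [add_comm]
      exact Subspace.finrank_add_finrank_dualAnnihilator_eq A
    have fB : finrank K B.dualAnnihilator + finrank K B = finrank K V := by
      rw [add_comm]
      exact Subspace.finrank_add_finrank_dualAnnihilator_eq B
    have fD : finrank K (Dual K V) = finrank K V := Subspace.dual_finrank_eq
    have irr' : ∀ C : Submodule K (Dual K V), B.dualAnnihilator ≤ C → C ≤ A.dualAnnihilator →
        (∀ g ∈ S', ∀ v ∈ C, g v ∈ C) → C = B.dualAnnihilator ∨ C = A.dualAnnihilator := by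
      intro C hBC hCA invC
      have e : C.dualCoannihilator.dualAnnihilator = C := Subspace.dualCoannihilator_dualAnnihilator_eq
      have h1 : A ≤ C.dualCoannihilator := by
        rw [← Subspace.dualAnnihilator_le_dualAnnihilator_iff, e]
        exact hCA
      have h2 : C.dualCoannihilator ≤ B := by
        rw [← Subspace.dualAnnihilator_le_dualAnnihilator_iff, e]
        exact hBC
      rcases irr _ h1 h2 ((hinv _).2 (by rw [e]; exact invC)) with h | h
      · right
        rw [← e, h]
      · left
        rw [← e, h]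
    obtain ⟨w, hw⟩ := exists_sec hS' hh' hsol' (Submodule.dualAnnihilator_anti hAB.le)
      ((hinv B).1 invB) ((hinv A).1 invA) irr'
    refine red_core hw hsol' (finrank K A) (by omega) (by omega) (by omega) (by omega) fun m hm hm' hm2 => ?_
    rw [fD] at hm'
    obtain ⟨V₁, -, -, h₁⟩ := exists_between (bot_le : (⊥ : Submodule K V) ≤ ⊤) m (by
      rw [finrank_bot, finrank_top]; omega)
    rw [finrank_bot, zero_add] at h₁
    exact thmV_univ m V₁ h₁ (IH m hm hm' hm2)

end Cfsg.Agent.H754.FC
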