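import Cfsg.Agent.H754.FC.Two

/-!
# S5764, StmtRed: transport, and case (II) (helper754)
-/

set_option autoImplicit false

namespace Cfsg.Agent.H754.FC

open Cfsg.Agent.H198.FC Module

universe u v v'

section

variable {K : Type u} [Field K] {V : Type v} [AddCommGroup V] [Module K V] {V' : Type v'} [AddCommGroup V']
  [Module K V']

/-- transport of permutations -/
def tr (e : V ≃ₗ[K] V') : Equiv.Perm V →* Equiv.Perm V' := (Equiv.permCongrHom e.toEquiv).toMonoidHom

theorem tr_apply (e : V ≃ₗ[K] V') (g : Equiv.Perm V) (v : V') : tr e g v = e (g (e.symm v)) := rfl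

theorem tr_inj (e : V ≃ₗ[K] V') : Function.Injective (tr e) := (Equiv.permCongrHom e.toEquiv).injective

theorem tr_mem_semi (e : V ≃ₗ[K] V') {g : Equiv.Perm V} (hg : g ∈ Semi K V) : tr e g ∈ Semi K V' := by
  obtain ⟨h0, σ, hs⟩ := hg
  exact ⟨fun v w => by rw [tr_apply, tr_apply, tr_apply, map_add, h0, map_add],
    σ, fun a v => by rw [tr_apply, tr_apply, map_smul, hs, map_smul]⟩

theorem tr_hm (e : V ≃ₗ[K] V') (a : Kˣ) : tr e (hm K V a) = hm K V' a := by
  apply Equiv.ext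
  intro v
  rw [tr_apply, hm_apply, hm_apply, map_smul, LinearEquiv.apply_symm_apply]

theorem tr_lin (e : V ≃ₗ[K] V') (x : V ≃ₗ[K] V) :
    tr e (x.toEquiv : Equiv.Perm V) = ((e.symm.trans (x.trans e)).toEquiv : Equiv.Perm V') := rfl

/-- transport of `FiveV` -/
theorem fiveV_congr (e : V ≃ₗ[K] V') {S : Subgroup (Equiv.Perm V)} (h : FiveV K V' (S.map (tr e))) :
    FiveV K V S := by
  obtain ⟨x, hx, hS⟩ := h
  refine ⟨fun i => e.trans ((x i).trans e.symm), fun i => ?_, fun g hg hi => ?_⟩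
  · have h1 : ((e.trans ((x i).trans e.symm) : V ≃ₗ[K] V) : V →ₗ[K] V) =
        (e.symm : V' →ₗ[K] V) ∘ₗ ((x i : V' ≃ₗ[K] V') : V' →ₗ[K] V') ∘ₗ (e : V →ₗ[K] V') := rfl
    rw [h1]
    have := LinearMap.det_conj ((x i : V' ≃ₗ[K] V') : V' →ₗ[K] V') e.symm
    rw [LinearEquiv.symm_symm] at this
    rw [this, hx i]
  · obtain ⟨a, ha⟩ := hS (tr e g) ⟨g, hg, rfl⟩ fun i => by
      refine ⟨_, hi i, ?_⟩
      rw [map_mul, map_mul, map_inv, tr_lin]
      have : (e.symm.trans ((e.trans ((x i).trans e.symm)).trans e)) = x i := by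
        apply LinearEquiv.ext
        intro v
        simp
      rw [this]
    exact ⟨a, tr_inj e (by rw [ha, tr_hm])⟩

theorem solvable_map (e : V ≃ₗ[K] V') {S : Subgroup (Equiv.Perm V)} (h : Group.IsSolvable S) :
    Group.IsSolvable (S.map (tr e)) :=
  Group.isSolvable_of_surjective (f := (tr e).subgroupMap S) ((tr e).subgroupMap_surjective S)

/-- transport of `ThmV` between universes -/
theorem thmV_univ (m : ℕ) (V₁ : Type v) [AddCommGroup V₁] [Module K V₁] [Module.Finite K V₁] (h₁ : finrank K V₁ = m)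
    (h : ThmV.{u, v} K m) : ThmV.{u, v'} K m := by
  intro V₂ _ _ _ h₂ S hS hh hsol
  let e : V₂ ≃ₗ[K] V₁ := LinearEquiv.ofFinrankEq _ _ (by rw [h₁, h₂])
  refine fiveV_congr e (h V₁ h₁ _ ?_ (fun a => ⟨hm K V₂ a, hh a, tr_hm e a⟩) (solvable_map e hsol))
  rintro _ ⟨g, hg, rfl⟩
  exact tr_mem_semi e (hS hg)

/-- transport of `Sec` -/
theorem Sec.map {S : Subgroup (Equiv.Perm V)} {A B : Submodule K V} {w : Fin 3 → V} (h : Sec S A B w)
    (e : V ≃ₗ[K] V') {A' B' : Submodule K V'} (hA : ∀ v, v ∈ A ↔ e v ∈ A') (hB : ∀ v, v ∈ B ↔ e v ∈ B') :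
    Sec (S.map (tr e)) A' B' (fun j => e (w j)) where
  semi := by
    rintro _ ⟨g, hg, rfl⟩
    exact tr_mem_semi e (h.semi hg)
  hom a := ⟨_, h.hom a, tr_hm e a⟩
  le := by
    intro v hv
    obtain ⟨u, rfl⟩ := e.surjective v
    exact (hB u).1 (h.le ((hA u).2 hv))
  invA := by
    rintro _ ⟨g, hg, rfl⟩ v hv
    obtain ⟨u, rfl⟩ := e.surjective v
    rw [tr_apply, LinearEquiv.symm_apply_apply]
    exact (hA _).1 (h.invA g hg u ((hA u).2 hv))
  invB := by
    rintro _ ⟨g, hg, rfl⟩ v hv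
    obtain ⟨u, rfl⟩ := e.surjective v
    rw [tr_apply, LinearEquiv.symm_apply_apply]
    exact (hB _).1 (h.invB g hg u ((hB u).2 hv))
  mem j := (hB _).1 (h.mem j)
  base := by
    rintro _ ⟨g, hg, rfl⟩ hw v hv
    obtain ⟨u, rfl⟩ := e.surjective v
    rw [tr_apply, LinearEquiv.symm_apply_apply, ← map_sub, ← hA]
    refine h.base g hg (fun j => ?_) u ((hB u).2 hv)
    have := hw j
    rwa [tr_apply, LinearEquiv.symm_apply_apply, ← map_sub, ← hA] at this

/-- **determinants are free**, version with `hat` -/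
theorem fiveV_of_hat [Module.Finite K V] {S : Subgroup (Equiv.Perm V)} {A B : Submodule K V} {w : Fin 3 → V}
    (h : Sec S A B w) (hA : A ≠ ⊥)
    (H : ∃ x : Fin 4 → (V ≃ₗ[K] V), ∀ g ∈ hat S A h.semi h.invA,
      (∀ i, ((x i).toEquiv : Equiv.Perm V) * g * ((x i).toEquiv : Equiv.Perm V)⁻¹ ∈ hat S A h.semi h.invA) →
        ∃ a : Kˣ, g = hm K V a) : FiveV K V S := by
  obtain ⟨x, hx⟩ := H
  have hd : ∀ i, IsUnit (LinearMap.det ((x i : V ≃ₗ[K] V) : V →ₗ[K] V)) := fun i => (x i).isUnit_det'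
  choose e he hee using fun i => exists_dilation (V := V) hA ((hd i).unit⁻¹)
  refine FiveV.mono (le_hat h.semi h.invA) ⟨fun i => (x i).trans (e i), fun i => ?_, fun g hg hi => ?_⟩
  · rw [LinearEquiv.coe_trans, LinearMap.det_comp, he]
    exact (hd i).val_inv_mul
  · refine hx g hg fun i => ?_
    have he' : ((e i).toEquiv : Equiv.Perm V) ∈ H754.FC.hat S A h.semi h.invA :=
      mem_hat_of h.semi h.invA (linear_mem_semi (e i)) (hee i)
    have h1 := mul_mem (mul_mem (inv_mem he') (hi i)) he'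
    have h2 : ((e i).toEquiv : Equiv.Perm V)⁻¹ * ((((x i).trans (e i)).toEquiv : Equiv.Perm V) * g *
        (((x i).trans (e i)).toEquiv : Equiv.Perm V)⁻¹) * ((e i).toEquiv : Equiv.Perm V) =
        ((x i).toEquiv : Equiv.Perm V) * g * ((x i).toEquiv : Equiv.Perm V)⁻¹ := by
      have h3 : (((x i).trans (e i)).toEquiv : Equiv.Perm V) =
          ((e i).toEquiv : Equiv.Perm V) * ((x i).toEquiv : Equiv.Perm V) := rfl
      rw [h3]
      group
    rwa [h2] at h1

end

/-- **case (II)**, except `dim V = 3 dim A` -/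
theorem red_two' {K : Type u} [Field K] [Finite K] {V : Type v} [AddCommGroup V] [Module K V] [Module.Finite K V]
    {S : Subgroup (Equiv.Perm V)} {A B : Submodule K V} {w : Fin 3 → V} (h : Sec S A B w) (hsol : Group.IsSolvable S)
    (c : ℕ) (hc : finrank K B + c = finrank K V) (hn : 2 * finrank K A < finrank K V) (h1 : 1 ≤ c)
    (h2 : c ≤ finrank K A) (h3 : finrank K A ≤ 2 * c) (h6 : finrank K V ≠ 3 * finrank K A)
    (IH : ∀ m, 2 ≤ m → m < finrank K V → (m = 2 → 4 ≤ Nat.card K) → ThmV.{u, v} K m) : FiveV K V S := by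
  set a := finrank K A with ha
  obtain ⟨D, hD⟩ := B.exists_isCompl
  have hD1 := Submodule.finrank_add_eq_of_isCompl hD
  have hAD : Disjoint A D := hD.disjoint.mono_left h.le
  have hAD1 : finrank K ↥(A ⊔ D) = a + c := by
    have := Submodule.finrank_sup_add_finrank_inf_eq A D
    rw [hAD.eq_bot, finrank_bot] at this
    omega
  obtain ⟨V₀, hV1, -, hV2⟩ := exists_between (le_top : A ⊔ D ≤ ⊤) (a - c) (by
    rw [hAD1, finrank_top]; omega)
  have hV₀ : finrank K V₀ = 2 * a := by omega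
  have hAV : A ≤ V₀ := le_sup_left.trans hV1
  have hVB : V₀ ⊔ B = ⊤ := by
    rw [eq_top_iff, ← hD.sup_eq_top, sup_comm]
    exact sup_le_sup_right (le_sup_right.trans hV1) B
  set C := V₀ ⊓ B with hCdef
  have hC1 : finrank K C = a + (a - c) := by
    have := Submodule.finrank_sup_add_finrank_inf_eq V₀ B
    rw [hVB, finrank_top, ← hCdef] at this
    omega
  obtain ⟨D', hD'⟩ := C.exists_isCompl
  set V' := B ⊓ D' with hV'
  have hCV' : C ⊔ V' = B := by
    have : C ⊔ B ⊓ D' = B ⊓ (C ⊔ D') := by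
      rw [inf_comm B D', ← sup_inf_assoc_of_le D' (inf_le_right : C ≤ B), inf_comm]
    rw [hV', this, hD'.sup_eq_top, inf_top_eq]
  have hcompl : IsCompl V₀ V' := by
    refine ⟨?_, ?_⟩
    · rw [disjoint_iff, hV', ← inf_assoc]
      exact hD'.disjoint.eq_bot
    · rw [codisjoint_iff, eq_top_iff, ← hVB]
      refine sup_le le_sup_left ?_
      rw [← hCV']
      exact sup_le_sup_right inf_le_left V'
  have hV'1 := Submodule.finrank_add_eq_of_isCompl hcompl
  let e : V ≃ₗ[K] (↥V₀ × ↥V') := (Submodule.prodEquivOfIsCompl V₀ V' hcompl).symm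
  have he : ∀ x y, e ((x : ↥V₀) + (y : ↥V') : V) = (x, y) := by
    intro x y
    rw [LinearEquiv.symm_apply_eq, Submodule.coe_prodEquivOfIsCompl']
  have hdec : ∀ v : V, ∃ (x : ↥V₀) (y : ↥V'), v = (x : V) + y := by
    intro v
    obtain ⟨⟨x, y⟩, rfl⟩ := (Submodule.prodEquivOfIsCompl V₀ V' hcompl).surjective v
    exact ⟨x, y, Submodule.coe_prodEquivOfIsCompl' _ _ _ _⟩
  have hA' : ∀ v, v ∈ A ↔ e v ∈ (A.submoduleOf V₀).prod (⊥ : Submodule K ↥V') := by
    intro v
    obtain ⟨x, y, rfl⟩ := hdec v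
    rw [he, Submodule.mem_prod, Submodule.mem_bot]
    constructor
    · intro hv
      have h5 : (y : V) = 0 := by
        refine Submodule.disjoint_def.1 hcompl.disjoint _ ?_ y.2
        have := V₀.sub_mem (hAV hv) x.2
        rwa [add_sub_cancel_left] at this
      refine ⟨?_, Subtype.ext h5⟩
      rw [h5, add_zero] at hv
      exact hv
    · rintro ⟨hx, hy⟩
      change (x : V) ∈ A at hx
      rw [show y = 0 from hy]
      change (x : V) + 0 ∈ A
      rwa [add_zero]
  have hB' : ∀ v, v ∈ B ↔ e v ∈ (C.submoduleOf V₀).prod (⊤ : Submodule K ↥V') := by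
    intro v
    obtain ⟨x, y, rfl⟩ := hdec v
    rw [he, Submodule.mem_prod]
    have hyB : (y : V) ∈ B := (inf_le_left : B ⊓ D' ≤ B) y.2
    rw [Submodule.add_mem_iff_left _ hyB]
    constructor
    · intro hx
      exact ⟨⟨x.2, hx⟩, Submodule.mem_top⟩
    · rintro ⟨hx, -⟩
      exact hx.2
  have hsec := h.map e hA' hB'
  refine fiveV_congr e (fiveV_of_hat hsec ?_ ?_)
  · intro hbot
    have : A = ⊥ := by
      rw [eq_bot_iff]
      intro v hv
      have := (hA' v).1 hv
      rw [hbot, Submodule.mem_bot, LinearEquiv.map_eq_zero_iff] at this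
      exact (Submodule.mem_bot K).2 this
    rw [this, finrank_bot] at ha
    omega
  · have f1 : finrank K (A.submoduleOf V₀) = a := (Submodule.submoduleOfEquivOfLe hAV).finrank_eq
    have f2 : finrank K (C.submoduleOf V₀) = a + (a - c) := by
      rw [(Submodule.submoduleOfEquivOfLe (inf_le_left : C ≤ V₀)).finrank_eq, hC1]
    have hAC : A.submoduleOf V₀ ≤ C.submoduleOf V₀ := fun x hx => ⟨x.2, h.le hx⟩
    refine two_prod hsec.semi hsec.hom (solvable_map e hsol) hAC hsec.invA hsec.invB a (a - c) f1 (by omega) hV₀ f2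
      (by omega) ?_
    by_cases hd : finrank K ↥V' + (a - c) ≤ a
    · exact Or.inl hd
    · by_cases hd3 : 3 ≤ finrank K ↥V'
      · exact Or.inr (Or.inl (IH _ (by omega) (by omega) (by omega)))
      · exact Or.inr (Or.inr ⟨by omega, by omega⟩)

end Cfsg.Agent.H754.FC
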