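import Cfsg.Agent.H754.FC.Core

/-!
# S5764, StmtRed, case (II): `c ≥ 1`, `c ≤ a ≤ 2 c` (helper754)
-/

set_option autoImplicit false

namespace Cfsg.Agent.H754.FC

open Cfsg.Agent.H198.FC Module

universe u v

section prod

set_option linter.unusedSectionVars false

variable {K : Type u} [Field K] [Finite K] {X Y : Type v} [AddCommGroup X] [Module K X] [AddCommGroup Y] [Module K Y]
  [Module.Finite K X] [Module.Finite K Y]

/-- a linear map into a complement of `D` -/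
theorem exists_phi_inj (D : Submodule K X) (h : finrank K D + finrank K Y ≤ finrank K X) :
    ∃ φ : Y →ₗ[K] X, ∀ y, φ y ∈ D → y = 0 := by
  obtain ⟨F, hF⟩ := D.exists_isCompl
  have h1 := Submodule.finrank_add_eq_of_isCompl hF
  obtain ⟨f, hf⟩ : ∃ f : Y →ₗ[K] ↥F, Function.Injective f := by
    obtain ⟨E, -, -, hE⟩ := exists_between (bot_le : (⊥ : Submodule K ↥F) ≤ ⊤) (finrank K Y) (by
      rw [finrank_bot, finrank_top]; omega)
    rw [finrank_bot, zero_add] at hE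
    let e : Y ≃ₗ[K] E := LinearEquiv.ofFinrankEq _ _ hE.symm
    exact ⟨E.subtype.comp (e : Y →ₗ[K] E), fun a b hab => e.injective (Subtype.ext hab)⟩
  refine ⟨F.subtype.comp f, fun y hy => ?_⟩
  have h2 := Submodule.disjoint_def.1 hF.disjoint _ hy (f y).2
  have h3 : f y = 0 := Subtype.ext h2
  exact hf (h3.trans (map_zero f).symm)

variable {S : Subgroup (Equiv.Perm (X × Y))} (hS : S ≤ Semi K (X × Y)) (hh : ∀ a, hm K (X × Y) a ∈ S)
  (hsol : Group.IsSolvable S) {A C : Submodule K X} (hAC : A ≤ C)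
  (invA : ∀ g ∈ S, ∀ v ∈ A.prod (⊥ : Submodule K Y), g v ∈ A.prod (⊥ : Submodule K Y))
  (invB : ∀ g ∈ S, ∀ v ∈ C.prod (⊤ : Submodule K Y), g v ∈ C.prod (⊤ : Submodule K Y))

theorem eq_hm_of {k : Equiv.Perm (X × Y)} {c : Kˣ} {κ : Equiv.Perm Y} {θ : Y → X}
    (hk : ∀ a b, k (a, b) = ((c : K) • a + θ b, κ b)) (hθ : ∀ b, θ b = 0) (hκ : ∀ b, κ b = (c : K) • b) :
    ∃ c : Kˣ, k = hm K (X × Y) c := by
  refine ⟨c, Equiv.ext ?_⟩
  rintro ⟨a, b⟩
  rw [hk, hθ, add_zero, hκ, hm_apply]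
  rfl

include invB hAC hh hsol in
theorem two_prod (a ε : ℕ) (ha : finrank K A = a) (ha1 : 1 ≤ a) (hX : finrank K X = 2 * a)
    (hC : finrank K C = a + ε) (hε : 2 * ε ≤ a)
    (hd : finrank K Y + ε ≤ a ∨ ThmV.{u, v} K (finrank K Y) ∨ (a = 1 ∧ finrank K Y ≤ 2)) :
    ∃ z : Fin 4 → ((X × Y) ≃ₗ[K] (X × Y)), ∀ k ∈ hat S (A.prod (⊥ : Submodule K Y)) hS invA,
      (∀ i, ((z i).toEquiv : Equiv.Perm (X × Y)) * k * ((z i).toEquiv : Equiv.Perm (X × Y))⁻¹ ∈
        hat S (A.prod (⊥ : Submodule K Y)) hS invA) → ∃ c : Kˣ, k = hm K (X × Y) c := by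
  obtain ⟨G, hG⟩ := exists_cfg A C hAC a ε ha ha1 hX hC hε
  have hnt : Nontrivial X := Module.nontrivial_of_finrank_pos (R := K) (by omega)
  have hmap : ∀ i x, (G i).symm x ∈ C ↔ x ∈ C.map ((G i : X ≃ₗ[K] X) : X →ₗ[K] X) := by
    intro i x
    constructor
    · intro h
      exact ⟨_, h, (G i).apply_symm_apply x⟩
    · rintro ⟨y, hy, rfl⟩
      change (G i).symm (G i y) ∈ C
      rwa [LinearEquiv.symm_apply_apply]
  have hfr : ∀ i, finrank K (C.map ((G i : X ≃ₗ[K] X) : X →ₗ[K] X)) = a + ε := by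
    intro i
    rw [LinearEquiv.finrank_map_eq, hC]
  have hex : ∀ i, ∃ e : X, (G i).symm e ∉ C := by
    intro i
    by_contra hcon
    push Not at hcon
    have : C.map ((G i : X ≃ₗ[K] X) : X →ₗ[K] X) = ⊤ := by
      rw [eq_top_iff]
      intro x _
      exact (hmap i x).1 (hcon x)
    have h1 := hfr i
    rw [this, finrank_top] at h1
    omega
  rcases hd with hd | hd | ⟨rfl, hd⟩
  · obtain ⟨φ, hφ⟩ := exists_phi_inj (Y := Y) (C.map ((G 3 : X ≃ₗ[K] X) : X →ₗ[K] X)) (by rw [hfr]; omega)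
    refine ⟨fun i => zz (G i) (LinearEquiv.refl K Y) (![0, 0, 0, φ] i), fun k hk hki => ?_⟩
    have h5 : Int5 S hS A invA G (fun _ => LinearEquiv.refl K Y) ![0, 0, 0, φ] k := ⟨hk, hki⟩
    obtain ⟨c, κ, θ, -, -, hk, hθ, hθ', -⟩ := h5.core (invB := invB) hAC hG.span hG.rig
    have hθ0 : ∀ b, θ b = 0 := by
      intro b
      refine hG.int (θ b) (hθ b) ?_ ?_ ?_
      · have := hθ' 0 b
        rwa [show (![0, 0, 0, φ] : Fin 4 → (Y →ₗ[K] X)) 0 = 0 from rfl, LinearMap.zero_apply, add_zero] at this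
      · have := hθ' 1 b
        rwa [show (![0, 0, 0, φ] : Fin 4 → (Y →ₗ[K] X)) 1 = 0 from rfl, LinearMap.zero_apply, add_zero] at this
      · have := hθ' 2 b
        rwa [show (![0, 0, 0, φ] : Fin 4 → (Y →ₗ[K] X)) 2 = 0 from rfl, LinearMap.zero_apply, add_zero] at this
    refine eq_hm_of hk hθ0 fun b => ?_
    have := hθ' 3 b
    rw [show (![0, 0, 0, φ] : Fin 4 → (Y →ₗ[K] X)) 3 = φ from rfl, hθ0, zero_add, hmap] at this
    exact (sub_eq_zero.1 (hφ _ this)).symm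
  · by_cases hY : finrank K Y = 0
    · -- trivial case `Y = 0`
      have : Subsingleton Y := Module.finrank_zero_iff.1 hY
      refine ⟨fun i => zz (G i) (LinearEquiv.refl K Y) 0, fun k hk hki => ?_⟩
      have h5 : Int5 S hS A invA G (fun _ => LinearEquiv.refl K Y) (fun _ => 0) k := ⟨hk, hki⟩
      obtain ⟨c, κ, θ, -, -, hk, hθ, hθ', -⟩ := h5.core (invB := invB) hAC hG.span hG.rig
      refine eq_hm_of hk (fun b => ?_) fun b => Subsingleton.elim _ _
      refine hG.int (θ b) (hθ b) ?_ ?_ ?_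
      · have := hθ' 0 b
        rwa [LinearMap.zero_apply, add_zero] at this
      · have := hθ' 1 b
        rwa [LinearMap.zero_apply, add_zero] at this
      · have := hθ' 2 b
        rwa [LinearMap.zero_apply, add_zero] at this
    · obtain ⟨x, -, hx⟩ := hd Y rfl (ind S C hS invB).range (ind_range_le hS invB) (hm_mem_ind hS invB hh)
        (ind_solvable hS invB hsol)
      have hntY : Nontrivial Y := Module.nontrivial_of_finrank_pos (R := K) (by omega)
      obtain ⟨y₀, hy₀⟩ := exists_ne (0 : Y)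
      obtain ⟨f, hf⟩ := Module.Projective.exists_dual_eq_one K hy₀
      obtain ⟨e, he⟩ := hex 3
      let φ : Y →ₗ[K] X := f.smulRight e
      refine ⟨fun i => zz (G i) (x i) (![0, 0, 0, φ] i), fun k hk hki => ?_⟩
      have h5 : Int5 S hS A invA G x ![0, 0, 0, φ] k := ⟨hk, hki⟩
      obtain ⟨c, κ, θ, hκ, hκi, hk, hθ, hθ', -⟩ := h5.core (invB := invB) hAC hG.span hG.rig
      have hθ0 : ∀ b, θ b = 0 := by
        intro b
        refine hG.int (θ b) (hθ b) ?_ ?_ ?_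
        · have := hθ' 0 b
          rwa [show (![0, 0, 0, φ] : Fin 4 → (Y →ₗ[K] X)) 0 = 0 from rfl, LinearMap.zero_apply, add_zero] at this
        · have := hθ' 1 b
          rwa [show (![0, 0, 0, φ] : Fin 4 → (Y →ₗ[K] X)) 1 = 0 from rfl, LinearMap.zero_apply, add_zero] at this
        · have := hθ' 2 b
          rwa [show (![0, 0, 0, φ] : Fin 4 → (Y →ₗ[K] X)) 2 = 0 from rfl, LinearMap.zero_apply, add_zero] at this
      obtain ⟨μ, rfl⟩ := hx κ hκ hκi
      have h6 := hθ' 3 y₀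
      rw [show (![0, 0, 0, φ] : Fin 4 → (Y →ₗ[K] X)) 3 = φ from rfl, hθ0, zero_add, hm_apply, ← sub_smul, map_smul,
        map_smul] at h6
      have h7 : φ y₀ = e := by
        change f y₀ • e = e
        rw [hf, one_smul]
      rw [h7] at h6
      have h8 : (c : K) = μ := by
        by_contra hcon
        exact he ((Submodule.smul_mem_iff _ (sub_ne_zero.2 hcon)).1 h6)
      refine eq_hm_of hk hθ0 fun b => ?_
      rw [hm_apply, h8]
  · have hε0 : ε = 0 := by omega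
    subst hε0
    have hAC' : A = C := Submodule.eq_of_le_of_finrank_eq hAC (by rw [ha, hC])
    subst hAC'
    -- two functionals
    obtain ⟨f₁, f₂, hf⟩ : ∃ f₁ f₂ : Dual K Y, ∀ y, f₁ y = 0 → f₂ y = 0 → y = 0 := by
      let b := Module.finBasis K Y
      refine ⟨if h : 0 < finrank K Y then b.coord ⟨0, h⟩ else 0, if h : 1 < finrank K Y then b.coord ⟨1, h⟩ else 0,
        fun y h1 h2 => ?_⟩
      rw [← b.forall_coord_eq_zero_iff]
      rintro ⟨i, hi⟩
      obtain rfl | rfl : i = 0 ∨ i = 1 := by omega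
      · rwa [dif_pos hi] at h1
      · rwa [dif_pos hi] at h2
    obtain ⟨e₁, he₁⟩ := hex 1
    obtain ⟨e₂, he₂⟩ := hex 2
    refine ⟨fun i => zz (G i) (LinearEquiv.refl K Y) (![0, f₁.smulRight e₁, f₂.smulRight e₂, 0] i),
      fun k hk hki => ?_⟩
    have h5 : Int5 S hS A invA G (fun _ => LinearEquiv.refl K Y) ![0, f₁.smulRight e₁, f₂.smulRight e₂, 0] k :=
      ⟨hk, hki⟩
    obtain ⟨c, κ, θ, -, -, hk, hθ, hθ', -⟩ := h5.core (invB := invB) hAC hG.span hG.rig
    have hθ0 : ∀ b, θ b = 0 := by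
      intro b
      refine hG.dis (θ b) (hθ b) ?_
      have := hθ' 0 b
      rwa [show (![0, f₁.smulRight e₁, f₂.smulRight e₂, 0] : Fin 4 → (Y →ₗ[K] X)) 0 = 0 from rfl,
        LinearMap.zero_apply, add_zero] at this
    refine eq_hm_of hk hθ0 fun b => ?_
    have h1 := hθ' 1 b
    have h2 := hθ' 2 b
    rw [show (![0, f₁.smulRight e₁, f₂.smulRight e₂, 0] : Fin 4 → (Y →ₗ[K] X)) 1 = f₁.smulRight e₁ from rfl,
      hθ0, zero_add, LinearMap.smulRight_apply, map_smul] at h1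
    rw [show (![0, f₁.smulRight e₁, f₂.smulRight e₂, 0] : Fin 4 → (Y →ₗ[K] X)) 2 = f₂.smulRight e₂ from rfl,
      hθ0, zero_add, LinearMap.smulRight_apply, map_smul] at h2
    have h3 : f₁ ((c : K) • b - κ b) = 0 := by
      by_contra hcon
      exact he₁ ((Submodule.smul_mem_iff _ hcon).1 h1)
    have h4 : f₂ ((c : K) • b - κ b) = 0 := by
      by_contra hcon
      exact he₂ ((Submodule.smul_mem_iff _ hcon).1 h2)
    exact (sub_eq_zero.1 (hf _ h3 h4)).symm

end prod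

end Cfsg.Agent.H754.FC
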